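import Cfsg.Agent.C6.Core
import Cfsg.Agent.H27.OInv
import Cfsg.Agent.ASCH.Main

/-! Normalisers of symplectic type `2`-groups: the trivial intersection property forces
normality. -/

set_option autoImplicit false
set_option linter.unusedSectionVars false
set_option linter.unusedVariables false
set_option linter.unusedSimpArgs false

namespace Cfsg.Agent.C6

open Module Cfsg.Agent.H27

universe u v

variable {F : Type u} {V : Type v} [Field F] [AddCommGroup V] [Module F V]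
variable [Finite F] [FiniteDimensional F V]
variable {R L M : Subgroup (GV F V)} {a b c d g h k r s u w x y z : GV F V}

/-- The conjugate subgroup. -/
def cjg (g : GV F V) (R : Subgroup (GV F V)) : Subgroup (GV F V) :=
  R.comap (MulAut.conj g⁻¹).toMonoidHom

theorem mem_cjg : x ∈ cjg g R ↔ g⁻¹ * x * g⁻¹⁻¹ ∈ R := Iff.rfl

theorem conj_mem_cjg : g * x * g⁻¹ ∈ cjg g R ↔ x ∈ R := by
  rw [mem_cjg, show g⁻¹ * (g * x * g⁻¹) * g⁻¹⁻¹ = x by group]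

theorem mem_RS_cjg : x ∈ RS (cjg g R) ↔ g⁻¹ * x * g⁻¹⁻¹ ∈ RS R := by
  have e : ∀ {s : GV F V} (g r : GV F V), s ∈ Sc F V → g * (s * r) * g⁻¹ = s * (g * r * g⁻¹) :=
    fun g r hs => by rw [← mul_assoc, ← Sc_comm hs]; group
  constructor
  · intro h
    obtain ⟨s, hs, r, hr, rfl⟩ := mem_RS.1 h
    exact mem_RS.2 ⟨s, hs, _, hr, e _ _ hs⟩
  · intro h
    obtain ⟨s, hs, r, hr, e1⟩ := mem_RS.1 h
    exact mem_RS.2 ⟨s, hs, _, conj_mem_cjg.2 hr, by rw [← e _ _ hs, ← e1]; group⟩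

theorem mem_Nrm_cjg (h : g⁻¹ * x * g⁻¹⁻¹ ∈ Nrm R) : x ∈ Nrm (cjg g R) := mem_Nrm fun y hy => by
  have := mem_Nrm_apply h (le_RS (mem_cjg.1 hy))
  rw [mem_RS_cjg]
  convert this using 1
  group

theorem Pa.cjg (P : Pa R) (g : GV F V) : Pa (cjg g R) where
  two := P.two
  nt := P.nt
  neg := by simpa [mem_cjg] using P.neg
  comm x hx y hy := by
    rcases P.comm _ (mem_cjg.1 hx) _ (mem_cjg.1 hy) with e | e
    · exact Or.inl (ip_eq_zero.1 ((ip_conj g⁻¹ x y).symm.trans (ip_eq_zero.2 e)))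
    · refine Or.inr ?_
      have := congrArg (fun t => g * t * g⁻¹) e
      simpa [mul_assoc] using this
  sq x hx := by
    refine (P.sq _ (mem_cjg.1 hx)).imp (fun e => ?_) fun e => ?_
    · simpa [mul_assoc] using conj_sq_one e g
    · simpa [mul_assoc] using conj_sq_neg e g
  span := eq_top_iff.2 fun f _ => by
    have := P.span_ind (p := fun f => g.1 * f * (g⁻¹).1 ∈ Submodule.span F
      ((fun x : GV F V => x.1) '' (C6.cjg g R : Set (GV F V))))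
      (fun x hx => Submodule.subset_span ⟨_, conj_mem_cjg.2 hx, rfl⟩) (by simp)
      (fun f f' a b => by simpa only [mul_add, add_mul] using Submodule.add_mem _ a b)
      (fun c f a => by simpa only [mul_smul_comm, smul_mul_assoc] using Submodule.smul_mem _ c a)
      ((g⁻¹).1 * f * g.1)
    simpa [mul_assoc] using this

local notation "π" => QuotientGroup.mk' (Sc F V)

theorem mem_map_pi (hL : Sc F V ≤ L) : π x ∈ L.map π ↔ x ∈ L :=
  ⟨fun ⟨y, hy, e⟩ => by simpa using L.mul_mem hy (hL (QuotientGroup.eq.1 e)), fun h => ⟨x, h, rfl⟩⟩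

theorem pi_eq_one : π x = 1 ↔ x ∈ Sc F V := QuotientGroup.eq_one_iff x

theorem Sc_le_Nrm : Sc F V ≤ Nrm R := fun _ h => RS_le_Nrm (Sc_le_RS h)

namespace CM

variable (P : CM R M) (hB : Bk R M) (hR : Rich R) (hn : 4 < finrank F V ^ 2)
  (hT : ∀ x ∈ R, x ∉ Sc F V → TI R M x)
include P hB hR hn hT

theorem ti_RS (hx : x ∈ RS R) (hx' : x ∉ Sc F V) : TI R M x := by
  obtain ⟨s, hs, r, hr, rfl⟩ := mem_RS.1 hx
  exact (hT r hr fun e => hx' ((Sc F V).mul_mem hs e)).smul hs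

theorem strong (hg : g ∈ M) (hx : x ∈ RS R) (hx' : x ∉ Sc F V) (h : g * x * g⁻¹ ∈ Nrm R) :
    g ∈ Nrm R := by
  by_contra hc
  have k : ∀ {x}, g⁻¹ * x * g⁻¹⁻¹ ∈ M → x ∈ M := fun {x} h => by
    simpa [mul_assoc] using M.mul_mem (M.mul_mem hg h) (M.inv_mem hg)
  refine Two.false_of (R' := cjg g R) ⟨P.toPa, P.toPa.cjg g, P.RS_le,
    fun x hx => k (P.RS_le (mem_RS_cjg.1 hx)), fun x => P.ti_RS hB hR hn hT,
    fun x hx hx' c hc h => mem_Nrm_cjg (P.ti_RS hB hR hn hT (mem_RS_cjg.1 hx)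
      (by rwa [conj_mem_Sc]) _ (M.mul_mem (M.mul_mem (M.inv_mem hg) hc)
        (M.inv_mem (M.inv_mem hg))) ?_),
    fun x hx h => by_contra fun hx' => hc ((Nrm R).inv_mem_iff.1 (P.ti_RS hB hR hn hT hx hx' _
      (M.inv_mem hg) (mem_RS_cjg.1 h)))⟩ P hB hR hn (y := g * x * g⁻¹)
    ⟨mem_RS_cjg.2 (by simpa [mul_assoc] using hx), h⟩ (by rwa [conj_mem_Sc])
  convert mem_RS_cjg.1 h using 1
  group

theorem le_of_nc (hL : L ≤ M) (h1 : RS R ≤ L) (hy : y ∈ RS R) (hw : w ∈ RS R) (hy' : y ∉ Sc F V)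
    (hw' : w ∉ Sc F V) (nc : ∀ n ∈ L, n ∈ Nrm R → (n * y * n⁻¹)⁻¹ * w ∉ Sc F V) : L ≤ Nrm R := by
  intro g hg
  have := finite_GV (F := F) (V := V)
  have U : ∀ y ∈ RS R, y ∉ Sc F V → ∀ h ∈ L.map π, h * π y * h⁻¹ ∈ (Nrm R).map π →
      h ∈ (Nrm R).map π := by
    rintro y hy hy' _ ⟨h, hh, rfl⟩ e
    exact ⟨h, P.strong hB hR hn hT (hL hh) hy hy' ((mem_map_pi Sc_le_Nrm).1 e), rfl⟩
  have sq : ∀ y ∈ RS R, π y * π y = 1 := fun y hy => pi_eq_one.2 (P.sqS hy)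
  have E : ∀ {t : GV F V ⧸ Sc F V}, (∃ n ∈ L.map π, n ∈ (Nrm R).map π ∧
      (t = n * π y * n⁻¹ ∨ t = n * π w * n⁻¹)) → t ∈ (RS R).map π := by
    rintro t ⟨_, -, ⟨n, hn, rfl⟩, rfl | rfl⟩
    exacts [⟨_, mem_Nrm_apply hn hy, rfl⟩, ⟨_, mem_Nrm_apply hn hw, rfl⟩]
  obtain ⟨z, z1, z2, z3⟩ := inv_trick (H := L.map π) (N := (Nrm R).map π) (g := π g)
    ⟨y, h1 hy, rfl⟩ ⟨w, h1 hw, rfl⟩ ⟨g, hg, rfl⟩ (sq y hy) (sq w hw) ⟨y, RS_le_Nrm hy, rfl⟩
    ⟨w, RS_le_Nrm hw, rfl⟩ (U y hy hy') (U w hw hw') (by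
      rintro _ ⟨n, hn, rfl⟩ hn' e
      exact nc n hn ((mem_map_pi Sc_le_Nrm).1 hn') (QuotientGroup.eq.1 e))
  obtain ⟨z, rfl⟩ := QuotientGroup.mk'_surjective (Sc F V) z
  have z4 : z * y ∈ RS R := (mem_map_pi le_sup_right).1 (E z2)
  have z5 : g⁻¹ * z * g * w ∈ RS R := (mem_map_pi le_sup_right).1 (E z3)
  exact (Nrm R).inv_mem_iff.1 (P.ti_RS hB hR hn hT (((RS R).mul_mem_cancel_right hy).1 z4)
    (mt pi_eq_one.2 z1) _ (M.inv_mem (hL hg))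
    (by simpa using ((RS R).mul_mem_cancel_right hw).1 z5))

theorem le_Nrm_real (hs : ∀ s ∈ R, s ∈ Sc F V → s * s = 1) (hy : y ∈ R) (hy' : y ∉ Sc F V)
    (y2 : y * y = 1) (hw : NN R w) : M ≤ Nrm R :=
  P.le_of_nc hB hR hn hT le_rfl P.RS_le (le_RS hy) hw.RS hy' hw.2.2 fun n h1 h2 e => by
    have h3 := hB n h1 y hy (mem_Nrm_apply h2 (le_RS hy))
    have h4 := hs _ (R.mul_mem (R.inv_mem h3) hw.1) e
    have h5 := conj_sq_one y2 n
    generalize n * y * n⁻¹ = t at *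
    rw [inv_of_sq' h5] at e h4
    rcases P.comm t h3 w hw.1 with e1 | e1
    · rw [P.sq_mul_comm (ip_eq_zero.2 e1), h5, hw.2.1, one_mul] at h4
      exact P.ne_neg 1 h4.symm
    · have := ip_sc_left e w
      rw [P.ip_mul_left (le_RS h3) hw.RS hw.RS, ip_self, P.ip_of_anti e1] at this
      exact absurd this (by decide)

theorem exists_pure (hM : ¬ M ≤ Nrm R) : ∃ L ≤ M, RS R ≤ L ∧ ¬ L ≤ Nrm R ∧
    (∀ g ∈ M, ∀ x ∈ L, g * x * g⁻¹ ∈ L) ∧
    ∀ j ∈ L, j ∈ Nrm R → j * j ∈ Sc F V → j ∈ RS R := by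
  have := finite_GV (F := F) (V := V)
  let G := M.map π
  let H := ((Nrm R).map π).subgroupOf G
  let Z : Set G := {z | ∃ g ∈ M, ∃ x ∈ RS R, x ∉ Sc F V ∧ z.1 = π (g * x * g⁻¹)}
  let p : M →* G := (π).subgroupMap M
  have p1 : ∀ g : M, (p g).1 = π g := fun _ => rfl
  have p2 : Function.Surjective p := MonoidHom.subgroupMap_surjective _ _
  have p3 : ∀ g : M, p g ∈ H ↔ g.1 ∈ Nrm R := fun g => mem_map_pi Sc_le_Nrm
  have fx : ∀ (z : G) (c : G), z • (c : G ⧸ H) = c ↔ c⁻¹ * z * c ∈ H := fun z c => by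
    rw [MulAction.Quotient.smul_coe, eq_comm, QuotientGroup.eq, smul_eq_mul, mul_assoc]
  have fx2 : ∀ g (hg : g ∈ M) x, x ∈ RS R → x ∉ Sc F V → ∀ z : G, z.1 = π (g * x * g⁻¹) →
      ∀ c : G ⧸ H, z • c = c ↔ c = (p ⟨g, hg⟩ : G) := fun g hg x hx hx' z e c => by
    obtain ⟨c, rfl⟩ := QuotientGroup.mk_surjective c
    obtain ⟨c, rfl⟩ := p2 c
    have e1 : z = p ⟨g * x * g⁻¹, M.mul_mem (M.mul_mem hg (P.RS_le hx)) (M.inv_mem hg)⟩ :=
      Subtype.ext e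
    rw [fx, QuotientGroup.eq, e1, ← map_inv, ← map_mul, ← map_mul, ← map_mul, p3, p3]
    change c.1⁻¹ * (g * x * g⁻¹) * c.1 ∈ _ ↔ c.1⁻¹ * g ∈ _
    rw [show c.1⁻¹ * (g * x * g⁻¹) * c.1 = c.1⁻¹ * g * x * (c.1⁻¹ * g)⁻¹ by group]
    exact ⟨P.strong hB hR hn hT (M.mul_mem (M.inv_mem c.2) hg) hx hx',
      fun h => RS_le_Nrm (mem_Nrm_apply h hx)⟩
  obtain ⟨x0, hx0, -, hx0'⟩ := P.exists_comm (l := []) (by simp) [] (lt_trans (by simp) hn)
  obtain ⟨g0, hg0, hg0'⟩ := SetLike.not_le_iff_exists.1 hM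
  have zc : ∀ z ∈ Z, ∀ g : G, g * z * g⁻¹ ∈ Z := by
    rintro z ⟨g, hg, x, hx, hx', e⟩ c
    obtain ⟨c, rfl⟩ := p2 c
    exact ⟨c * g, M.mul_mem c.2 hg, x, hx, hx', by
      rw [conj_mul, map_mul, map_mul, map_inv, ← e]; rfl⟩
  have ze : ASCH.ZE G (G ⧸ H) Z := by
    refine ⟨fun b c => MulAction.exists_smul_eq G b c, ⟨(1 : G), (p ⟨g0, hg0⟩ : G), fun e => hg0' ?_⟩,
      ?_, zc, ?_, fun c => ?_, ?_⟩
    · simpa [p3] using QuotientGroup.eq.1 e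
    · rintro z ⟨g, hg, x, hx, hx', e⟩
      refine orderOf_eq_prime (Subtype.ext ?_) fun e1 => hx' ?_
      · rw [pow_two, Subgroup.coe_mul, e, ← map_mul, conj_sq]
        exact pi_eq_one.2 (conj_mem_Sc.2 (P.sqS hx))
      · rwa [e1, eq_comm, Subgroup.coe_one, pi_eq_one, conj_mem_Sc] at e
    · rintro z ⟨g, hg, x, hx, hx', e⟩ b c h1 h2
      rw [(fx2 g hg x hx hx' z e b).1 h1, (fx2 g hg x hx hx' z e c).1 h2]
    · obtain ⟨c, rfl⟩ := QuotientGroup.mk_surjective c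
      obtain ⟨c, rfl⟩ := p2 c
      exact ⟨p ⟨c * x0 * c.1⁻¹, M.mul_mem (M.mul_mem c.2 (P.le hx0)) (M.inv_mem c.2)⟩,
        ⟨c, c.2, x0, le_RS hx0, hx0', rfl⟩, (fx2 c c.2 x0 (le_RS hx0) hx0' _ rfl _).2 rfl⟩
    · rintro z ⟨g, hg, x, hx, hx', e⟩ w ⟨g', hg', x', h1, h2, e'⟩ hne hc
      have a1 := (fx2 g hg x hx hx' z e _).2 rfl
      have a2 : z • w • ((p ⟨g, hg⟩ : G) : G ⧸ H) = w • ((p ⟨g, hg⟩ : G) : G ⧸ H) := by
        rw [← mul_smul, hc, mul_smul, a1]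
      have a3 := (fx2 g' hg' x' h1 h2 w e' _).1 ((fx2 g hg x hx hx' z e _).1 a2)
      rw [QuotientGroup.eq, ← map_inv, ← map_mul, p3] at a3
      have a4 := mem_Nrm_apply a3 h1
      change g⁻¹ * g' * x' * (g⁻¹ * g')⁻¹ ∈ _ at a4
      have a5 : (z * w).1 = π (g * (x * (g⁻¹ * g' * x' * (g⁻¹ * g')⁻¹)) * g⁻¹) := by
        rw [Subgroup.coe_mul, e, e', ← map_mul]
        congr 1
        group
      refine ⟨g, hg, _, (RS R).mul_mem hx a4, fun a6 => hne ?_, a5⟩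
      rw [pi_eq_one.2 (conj_mem_Sc.2 a6)] at a5
      have a7 : z * z = 1 := Subtype.ext (by
        rw [Subgroup.coe_mul, e, ← map_mul, conj_sq]
        exact pi_eq_one.2 (conj_mem_Sc.2 (P.sqS hx)))
      exact mul_left_cancel (a7.trans (Subtype.ext a5).symm)
  have pu := ASCH.zd ze
  have nZ : (Subgroup.closure Z).Normal := ⟨fun x hx g => by
    induction hx using Subgroup.closure_induction with
    | mem z hz => exact Subgroup.subset_closure (zc z hz g)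
    | one => simp
    | mul a b _ _ h1 h2 => simpa [mul_assoc] using Subgroup.mul_mem _ h1 h2
    | inv a _ h1 => simpa [mul_assoc] using Subgroup.inv_mem _ h1⟩
  have m1 : ∀ x (hx : x ∈ M), x ∈ ((Subgroup.closure Z).comap p).map M.subtype ↔
      p ⟨x, hx⟩ ∈ Subgroup.closure Z := fun x hx =>
    Subgroup.mem_map_iff_mem (f := M.subtype) M.subtype_injective (x := ⟨x, hx⟩)
  refine ⟨((Subgroup.closure Z).comap p).map M.subtype, Subgroup.map_subtype_le _, fun x hx => ?_,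
    fun h => hg0' ?_, ?_, ?_⟩
  · rw [m1 x (P.RS_le hx)]
    by_cases hx' : x ∈ Sc F V
    · rw [show p ⟨x, P.RS_le hx⟩ = 1 from Subtype.ext (pi_eq_one.2 hx')]
      exact Subgroup.one_mem _
    · exact Subgroup.subset_closure ⟨1, M.one_mem, x, hx, hx', by simp [p1]⟩
  · have a1 := M.mul_mem (M.mul_mem hg0 (P.le hx0)) (M.inv_mem hg0)
    have a2 : p ⟨_, a1⟩ ∈ Z := ⟨g0, hg0, x0, le_RS hx0, hx0', rfl⟩
    exact P.strong hB hR hn hT hg0 (le_RS hx0) hx0' (h ((m1 _ a1).2 (Subgroup.subset_closure a2)))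
  · intro g hg x hx
    have a1 := Subgroup.map_subtype_le _ hx
    rw [m1 _ (M.mul_mem (M.mul_mem hg a1) (M.inv_mem hg))]
    have := nZ.conj_mem _ ((m1 x a1).1 hx) (p ⟨g, hg⟩)
    rwa [← map_inv, ← map_mul, ← map_mul] at this
  · rintro _ ⟨j, hj, rfl⟩ h1 h2
    by_cases h3 : j.1 ∈ Sc F V
    · exact Sc_le_RS h3
    obtain ⟨g, hg, x, hx, hx', e⟩ := pu (p j) hj (orderOf_eq_prime
      (Subtype.ext (by rw [pow_two]; exact pi_eq_one.2 h2)) fun e => h3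
        (pi_eq_one.1 (congrArg Subtype.val e)))
    have e1 : j.1⁻¹ * (g * x * g⁻¹) ∈ Sc F V := QuotientGroup.eq.1 e
    have e2 : g * x * g⁻¹ ∈ Nrm R := by simpa using (Nrm R).mul_mem h1 (Sc_le_Nrm e1)
    have := (RS R).mul_mem (mem_Nrm_apply (P.strong hB hR hn hT hg hx hx' e2) hx)
      ((RS R).inv_mem (Sc_le_RS e1))
    rwa [show g * x * g⁻¹ * (j.1⁻¹ * (g * x * g⁻¹))⁻¹ = j.1 by group] at this

end CM

end Cfsg.Agent.C6
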