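import Cfsg.Agent.C6.Core2

/-! Normalisers of symplectic type `2`-groups: the linear and unitary case of the trivial
intersection property. -/

set_option autoImplicit false
set_option linter.unusedSectionVars false
set_option linter.unusedVariables false
set_option linter.unusedSimpArgs false

namespace Cfsg.Agent.C6

open Module Cfsg.Agent.H27

universe u v

variable {F : Type u} {V : Type v} [Field F] [AddCommGroup V] [Module F V]
variable [Finite F] [FiniteDimensional F V]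
variable {R L M : Subgroup (GV F V)} {a b c d g h k r s u w x y z : GV F V}

theorem Pa.conj_mul_inv (P : Pa R) (hg : g ∈ RS R) (hx : x ∈ RS R) :
    g * x * g⁻¹ * x⁻¹ ∈ Sc F V := by
  rcases ip_cases g x with e | e
  · rw [conj_of_ip e, mul_inv_cancel]; exact (Sc F V).one_mem
  · rw [P.conj_anti hg hx e]; simpa using neg_one_mem_Sc

theorem Pa.T_conj_mem (P : Pa R) (ha : NN R a) (hx : x ∈ R) : T a * x * (T a)⁻¹ ∈ R := by
  rcases ip_cases a x with e | e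
  · rwa [T_conj_comm P.two ha.2.1 e]
  · rw [P.T_conj_one ha.RS ha.2.1 (le_RS hx) e]; exact R.mul_mem ha.1 hx

theorem Pa.T_conj_nn (P : Pa R) (ha : NN R a) (hx : NN R x) : NN R (T a * x * (T a)⁻¹) :=
  ⟨P.T_conj_mem ha hx.1, conj_sq_neg hx.2.1 _, by rw [conj_mem_Sc]; exact hx.2.2⟩

namespace CM

variable (P : CM R M) (hL : L ≤ M) (h1 : RS R ≤ L) (h2 : ∀ g ∈ M, ∀ x ∈ L, g * x * g⁻¹ ∈ L)
include P hL h1 h2

theorem fin_comm (h3 : ∀ j ∈ L, j ∈ Nrm R → j * j ∈ Sc F V → j ∈ RS R) (ha : NN R a)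
    (hc : NN R c) (e : ip a c = 0) (e' : c * a ∉ Sc F V) (h : T a * (T c)⁻¹ ∈ L) : False := by
  have hg : T a * T c ∈ L := by
    simpa [mul_assoc] using L.mul_mem h
      (T_inv_mul_mem P.two hc.2.1 (le_sup_right.trans h1) (h1 hc.RS))
  obtain ⟨b, hb, -, b1, b2⟩ := P.exists_anti2 (l := []) (by simp) ha.RS hc.RS ha.2.2 hc.2.2
  have B := le_RS hb
  have e1 : T a * T c * b * (T a * T c)⁻¹ = a * c * b := by
    rw [conj_mul, P.T_conj_one hc.RS hc.2.1 B ((ip_comm _ _).trans b2), P.T_conj_one ha.RS ha.2.1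
      ((RS R).mul_mem hc.RS B) (by rw [P.ip_mul_right hc.RS B ha.RS, e, ip_comm, b1, zero_add]),
      mul_assoc]
  have tc : ip (T a) (T c) = 0 := ip_T P.two ha.2.1 ((ip_comm _ _).trans
    (ip_T P.two hc.2.1 ((ip_comm _ _).trans e)))
  have e2 : T a * T c * (T a * T c) = C6.sc V 2 P.two * C6.sc V 2 P.two * (a * c) := by
    rw [P.sq_mul_comm tc, T_sq P.two ha.2.1, T_sq P.two hc.2.1, mul_assoc, mul_assoc,
      ← mul_assoc a, ← Sc_comm (sc_mem _ _) a, mul_assoc]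
  have e3 : ip (a * c) b = 0 := by
    rw [P.ip_mul_left ha.RS hc.RS B, ip_comm a, ip_comm c, b1, b2]; rfl
  have := h3 (b * (T a * T c)) (L.mul_mem (h1 B) hg)
    ((Nrm R).mul_mem (RS_le_Nrm B) (P.tt_Nrm ha hc).2) (by
      rw [show ∀ g, b * g * (b * g) = b * (g * b * g⁻¹) * (g * g) by intros; group, e1, e2,
        ip_eq_zero.1 e3, ← mul_assoc b, Sc_comm ((Sc F V).mul_mem (sc_mem _ _) (sc_mem _ _)),
        ← mul_assoc, mul_assoc (b * b)]
      exact (Sc F V).mul_mem ((Sc F V).mul_mem (P.sqS B) (P.sqS ((RS R).mul_mem ha.RS hc.RS)))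
        ((Sc F V).mul_mem (sc_mem _ _) (sc_mem _ _)))
  rw [(RS R).mul_mem_cancel_left B] at this
  obtain ⟨x, hx, x1, x2⟩ := P.exists_sep (l := [c]) (by simpa using hc.RS) ha.RS
    (by rintro (h | h); exacts [ha.2.2 h, e' h])
  have h4 := P.conj_mul_inv this (le_RS hx)
  rw [conj_mul, T_conj_comm P.two hc.2.1 ((ip_comm _ _).trans (x1 c (by simp))),
    P.T_conj_one ha.RS ha.2.1 (le_RS hx) ((ip_comm _ _).trans x2), mul_inv_cancel_right] at h4
  exact ha.2.2 h4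

theorem fin_pair (hI : HasI R) (hn : 4 < finrank F V ^ 2)
    (h3 : ∀ j ∈ L, j ∈ Nrm R → j * j ∈ Sc F V → j ∈ RS R) (ha : NN R a)
    (hc : NN R c) (e' : c * a ∉ Sc F V) (h : T a * (T c)⁻¹ ∈ L) : False := by
  rcases ip_cases a c with e | e
  · exact P.fin_comm hL h1 h2 h3 ha hc e e' h
  obtain ⟨u, hu, u1, u2⟩ := P.exists_comm (l := [a, c]) (by simp [ha.RS, hc.RS]) [] (by simpa)
  have u3 : ip u a = 0 := u1 a (by simp)
  have u4 : ip u c = 0 := u1 c (by simp)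
  obtain ⟨s, hs, s1, s2⟩ := P.exists_rep hI ((RS R).mul_mem ha.RS (le_RS hu)) (Or.inr rfl)
  have e1 : ip (s * (a * u)) a = 0 := (ip_smul_left hs _ _).trans (ip_mul_zero (ip_self a) u3)
  have e2 : ip (s * (a * u)) c = 1 := by
    rw [ip_smul_left hs, P.ip_mul_left ha.RS (le_RS hu) hc.RS, e, u4, add_zero]
  have he : NN R (s * (a * u)) := ⟨s1, s2, not_Sc_of_ip e2⟩
  have e3 : a * (s * (a * u)) ∉ Sc F V := fun e => u2 (by
    rwa [← mul_assoc, ← Sc_comm hs, mul_assoc, ← mul_assoc a, ha.2.1,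
      (Sc F V).mul_mem_cancel_left hs, neg_one_mul, neg_mem_Sc] at e)
  generalize s * (a * u) = d at *
  have e4 : T a * T d * c * (T a * T d)⁻¹ = a * (d * c) := by
    rw [conj_mul, P.T_conj_one he.RS he.2.1 hc.RS e2, P.T_conj_one ha.RS ha.2.1
      ((RS R).mul_mem he.RS hc.RS) (by rw [P.ip_mul_right he.RS hc.RS ha.RS, e, ip_comm, e1, zero_add])]
  have e5 : T a * T d * a * (T a * T d)⁻¹ = a :=
    conj_of_ip (ip_mul_zero (ip_T P.two ha.2.1 (ip_self a)) (ip_T P.two he.2.1 e1))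
  have hc' : NN R (a * (d * c)) := by
    rw [← e4, conj_mul]; exact P.T_conj_nn ha (P.T_conj_nn he hc)
  have h4 := h2 _ (P.tt a d ha he) _ h
  rw [show ∀ g, g * (T a * (T c)⁻¹) * g⁻¹ = g * T a * g⁻¹ * (g * T c * g⁻¹)⁻¹ by intros; group,
    T_conj P.two ha.2.1, T_conj P.two hc.2.1, e4, e5] at h4
  refine P.fin_comm hL h1 h2 h3 hc hc' ?_ ?_ (by simpa [mul_assoc] using L.mul_mem (L.inv_mem h) h4)
  · rw [P.ip_mul_right ha.RS ((RS R).mul_mem he.RS hc.RS) hc.RS, P.ip_mul_right he.RS hc.RS hc.RS,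
      ip_self, ip_comm c, ip_comm c, e, e2]; rfl
  · rwa [mul_assoc, mul_assoc, hc.2.1, mul_neg, mul_one, mul_neg, neg_mem_Sc]

theorem fin_false (hI : HasI R) (hn : 4 < finrank F V ^ 2)
    (h3 : ∀ j ∈ L, j ∈ Nrm R → j * j ∈ Sc F V → j ∈ RS R)
    (h4 : ∀ y ∈ RS R, ∀ w ∈ RS R, y ∉ Sc F V → w ∉ Sc F V →
      ∃ n ∈ L, n ∈ Nrm R ∧ (n * y * n⁻¹)⁻¹ * w ∈ Sc F V) : False := by
  have hB := P.bk_of_hasI hI M
  obtain ⟨c, hc, -, -⟩ := P.exists_NN' (l := []) (by simp) (lt_trans (by simp) hn)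
  obtain ⟨d0, hd0, a1, a2⟩ := P.exists_NN' (l := [c]) (by simpa using hc.RS) (by simpa)
  obtain ⟨n, n1, n2, n3⟩ := h4 c hc.RS d0 hd0.RS hc.2.2 hd0.2.2
  have nn : ∀ x, NN R x → NN R (n * x * n⁻¹) := fun x hx =>
    hx.conj hB (hL n1) (mem_Nrm_apply n2 hx.RS)
  have key : ∀ x, NN R x → T (n * c * n⁻¹) * T (n * x * n⁻¹) * (T x)⁻¹ * (T c)⁻¹ ∈ L :=
    fun x hx => by
      have := L.mul_mem n1 (h2 _ (P.tt c x hc hx) _ (L.inv_mem n1))
      rw [← T_conj P.two hc.2.1, ← T_conj P.two hx.2.1]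
      convert this using 1
      group
  have hd := nn c hc
  obtain ⟨d, e⟩ : ∃ d, d = n * c * n⁻¹ := ⟨_, rfl⟩
  rw [← e] at key hd n3
  have e0 : d0 = d⁻¹ * d0 * d := by rw [Sc_comm n3, mul_inv_cancel_left]
  have d1 : ip d c = 0 := by rw [← ip_smul_left n3, ← e0, a1 c (by simp)]
  have d2 : c * d ∉ Sc F V := fun h => a2 (by rw [e0, sp_smul n3]; exact Or.inr h)
  have k1 := key d hd
  rw [T_conj P.two (nn d hd).2.1] at k1
  by_cases h5 : c * (T d * (n * d * n⁻¹) * (T d)⁻¹) ∈ Sc F V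
  swap
  · exact P.fin_pair hL h1 h2 hI hn h3 (P.T_conj_nn hd (nn d hd)) hc h5 k1
  have h6 : c * (n * d * n⁻¹) ∈ Sc F V := by
    rwa [← T_conj_comm P.two hd.2.1 d1, show T d * c * (T d)⁻¹ * (T d * (n * d * n⁻¹) * (T d)⁻¹) =
      T d * (c * (n * d * n⁻¹)) * (T d)⁻¹ by group, conj_mem_Sc] at h5
  obtain ⟨s, hs, s1, s2⟩ := P.exists_rep hI ((RS R).mul_mem hc.RS hd.RS) (Or.inr rfl)
  have hu : NN R (s * (c * d)) := ⟨s1, s2, by rwa [(Sc F V).mul_mem_cancel_left hs]⟩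
  have e1 : n * (s * (c * d)) * n⁻¹ = s * (d * (n * d * n⁻¹)) := by
    rw [← mul_assoc n, ← Sc_comm hs, e]; group
  have k2 := key _ hu
  have k3 : T (n * (s * (c * d)) * n⁻¹) * (T (s * (c * d)))⁻¹ ∈ RS R := by
    rcases P.eq_or_neg hc.RS (hc.2.1.trans (nn d hd).2.1.symm) h6 with e2 | e2 <;>
      rw [e1, e2]
    · rw [ip_eq_zero.1 d1, mul_inv_cancel]; exact (RS R).one_mem
    · rw [mul_neg, mul_neg, ip_eq_zero.1 d1, T_neg P.two s2, mul_assoc, ← mul_inv_rev]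
      exact (RS R).mul_mem (Sc_le_RS (sc_mem _ _))
        ((RS R).inv_mem (T_inv_mul_mem P.two s2 le_sup_right hu.RS))
  refine P.fin_pair hL h1 h2 hI hn h3 hd hc d2 ?_
  have := L.mul_mem (L.inv_mem (h1 (mem_Nrm_apply (P.T_mem_Nrm hd.RS hd.2.1) k3))) k2
  convert this using 1
  group

end CM

theorem CM.le_Nrm_of_ti (P : CM R M) (hI : HasI R) (hn : 4 < finrank F V ^ 2)
    (hT : ∀ a, NN R a → TI R M a) : M ≤ Nrm R := by
  have hB := P.bk_of_hasI hI M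
  have hT' : ∀ x ∈ R, x ∉ Sc F V → TI R M x := fun x hx hx' => by
    obtain ⟨s, hs, s1, s2⟩ := P.exists_rep hI (le_RS hx) (Or.inr rfl)
    simpa using (hT _ ⟨s1, s2, by rwa [(Sc F V).mul_mem_cancel_left hs]⟩).smul ((Sc F V).inv_mem hs)
  by_contra hM
  obtain ⟨L, a1, a2, a3, a4, a5⟩ := P.exists_pure hB (Or.inl hI) hn hT' hM
  refine P.fin_false a1 a2 a4 hI hn a5 fun y hy w hw hy' hw' => ?_
  by_contra hc
  push Not at hc
  exact a3 (P.le_of_nc hB (Or.inl hI) hn hT' a1 a2 hy hw hy' hw' hc)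

end Cfsg.Agent.C6
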