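import Cfsg.Agent.C6.LU
import Cfsg.Agent.H98.ExtraCard
import Cfsg.Agent.H98.ExtForm

/-! From the abstract overgroup theorems to maximality statements. -/

set_option autoImplicit false
set_option linter.unusedSectionVars false
set_option linter.unusedVariables false
set_option linter.unusedSimpArgs false

namespace Cfsg.Agent.C6

open Module Cfsg.Agent.H27 Cfsg.Geo
open scoped MatrixGroups Matrix commutatorElement

universe u v

section GV

variable {F : Type u} {V : Type v} [Field F] [AddCommGroup V] [Module F V]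
variable [Finite F] [FiniteDimensional F V] {σ : F →+* F} {B : V →ₛₗ[σ] V →ₗ[F] F}
variable {R G M : Subgroup (GV F V)} {a b c d g h j k r s t u w x y z : GV F V}

theorem mem_norm (h : ∀ x ∈ R, g * x * g⁻¹ ∈ R) :
    g ∈ Subgroup.normalizer (R : Set (GV F V)) := by
  haveI := finite_GV (F := F) (V := V)
  exact Subgroup.mem_normalizer_fintype h

theorem norm_apply (hg : g ∈ Subgroup.normalizer (R : Set (GV F V))) (hx : x ∈ R) :
    g * x * g⁻¹ ∈ R := (Subgroup.mem_normalizer_iff.1 hg x).1 hx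

theorem Pa.T_norm (P : Pa R) (ha : NN R a) : T a ∈ Subgroup.normalizer (R : Set (GV F V)) :=
  mem_norm fun x hx => P.T_conj_mem ha hx

theorem T_mul_eq (h2 : (2 : F) ≠ 0) (ha : a * a = -1) (c : GV F V) :
    T a * c = sc V 2 h2 * (a * ((T a)⁻¹ * c)) := by
  rw [← mul_assoc, ← T_sq h2 ha]; group

theorem T_inv_neg (h2 : (2 : F) ≠ 0) (ha : a * a = -1) : ((T a)⁻¹ * T (-a))⁻¹ = a := by
  rw [T_neg h2 ha, mul_inv_rev, mul_inv_rev, inv_inv, mul_assoc,
    Sc_comm (inv_mem (sc_mem 2 h2)), ← mul_assoc, T_sq h2 ha]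
  exact Sc_conj' (sc_mem 2 h2) a

theorem Pa.cm_sup (P : Pa R) (hn : 4 < finrank F V ^ 2)
    (hT : ∀ a c, NN R a → NN R c → (T a)⁻¹ * T c ∈ M) : CM R (M ⊔ Sc F V) := by
  have h1 : ∀ a, NN R a → a ∈ M := fun a ha => by
    rw [← T_inv_neg P.two ha.2.1]; exact inv_mem (hT _ _ ha (ha.neg P))
  refine ⟨P, le_sup_right, fun x hx => ?_, fun a c ha hc => ?_⟩
  · by_cases hs : x ∈ Sc F V
    · exact Subgroup.mem_sup_right hs
    refine Subgroup.mem_sup_left ?_
    rcases P.sq x hx with e | e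
    · obtain ⟨a, ha, a1, a2⟩ := P.exists_NN' (l := [x]) (by simpa using le_RS hx) (by simpa using hn)
      have a3 : ip x a = 0 := by rw [ip_comm]; exact a1 x (by simp)
      have : NN R (x * a) := ⟨mul_mem hx ha.1, by rw [P.sq_mul_comm a3, e, ha.2.1, one_mul],
        fun h => a2 (Or.inr h)⟩
      simpa using mul_mem (h1 _ this) (inv_mem (h1 _ ha))
    · exact h1 x ⟨hx, e, hs⟩
  · rw [T_mul_eq P.two ha.2.1]
    exact mul_mem (Subgroup.mem_sup_right (sc_mem _ _))
      (Subgroup.mem_sup_left (mul_mem (h1 a ha) (hT a c ha hc)))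

theorem Pa.max_of (P : Pa R) (hn : 4 < finrank F V ^ 2) (hB : Bk R (G ⊔ Sc F V))
    (hT : ∀ a c, NN R a → NN R c → (T a)⁻¹ * T c ∈ G) (hne : ∃ g ∈ G, g ∉ Nrm R)
    (h : ∀ M ≤ G, CM R (M ⊔ Sc F V) → M ⊔ Sc F V ≤ Nrm R ∨ G ≤ M) :
    IsMaximalIn G (Subgroup.normalizer (R : Set (GV F V)) ⊓ G) := by
  refine isMaximalIn_of inf_le_right ?_ fun M h1 h2 g hg hg' => ?_
  · obtain ⟨g, g1, g2⟩ := hne
    exact ⟨g, g1, fun e => g2 (mem_Nrm fun x hx => le_RS (norm_apply e.1 hx))⟩
  refine (h M h2 (P.cm_sup hn fun a c ha hc => h1 ⟨Subgroup.mul_mem _ (inv_mem (P.T_norm ha))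
    (P.T_norm hc), hT a c ha hc⟩)).resolve_left fun e => hg' ⟨mem_norm fun x hx => ?_, h2 hg⟩
  exact hB g (Subgroup.mem_sup_left (h2 hg)) x hx
    (mem_Nrm_apply (e (Subgroup.mem_sup_left hg)) (le_RS hx))

theorem mem_of_pow_ex (h : t ∈ M ⊔ Sc F V) (e : t ^ ex F = t) : t ∈ M := by
  obtain ⟨s, hs, m, hm, rfl⟩ := mem_RS.1 h
  rw [← e, (show Commute s m from Sc_comm hs m).mul_pow, Sc_pow_ex hs, one_mul]
  exact pow_mem hm _

theorem has_of_sup {N : End F V} (h0 : ∀ x, N (N x) = 0)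
    (h : Has (ME (M ⊔ Sc F V)) fun x => x + N x) : Has (ME M) fun x => x + N x := by
  obtain ⟨t, ht, e⟩ := has_ME.1 h
  refine has_ME.2 ⟨t, mem_of_pow_ex ht (GV_ext fun x => ?_), e⟩
  rw [e, pow_ex_unip (W := ⊤) (N := N) one_ne_zero (fun _ _ => trivial) (fun x _ => h0 x)
    (fun x _ => by rw [e, one_smul]) trivial]

theorem t1_of_sup {v : V} {φ : Dual F V} (h0 : φ v = 0) (h : T1 (ME (M ⊔ Sc F V)) v φ) :
    T1 (ME M) v φ :=
  has_of_sup (N := φ.smulRight v) (fun x => by simp [h0]) h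

theorem si_sup (h : ∀ g ∈ M, Isom B g) : SI B (M ⊔ Sc F V) := fun c hc => by
  obtain ⟨s, hs, m, hm, rfl⟩ := mem_RS.1 hc
  exact ⟨s⁻¹, inv_mem hs, by simpa using h m hm⟩

theorem Pa.unip_nrm (P : Pa R) {N : End F V} (h0 : N * N = 0) (e : g.1 = 1 + N)
    (l : List (Dual F V)) (hl : ∀ x, (∀ φ ∈ l, φ x = 0) → N x = 0)
    (hn : 2 * l.length < finrank F V) (hg : g ∈ Nrm R) : N = 0 := by
  have e' : (g⁻¹).1 = 1 - N := Units.inv_eq_of_mul_eq_one_right (by
    rw [e, add_mul, mul_sub, mul_sub, h0]; simp)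
  have key : ∀ w ∈ R, N * w.1 * N = 0 := fun w hw => by
    have hy : g * w * g⁻¹ * w⁻¹ ∈ RS R :=
      mul_mem (mem_Nrm_apply hg (le_RS hw)) (inv_mem (le_RS hw))
    obtain ⟨z, -, z1, z2⟩ := exists_ker_list (l ++ l.map fun φ => φ ∘ₗ (w⁻¹).1) (W := ⊤) (S := ⊥)
      (by simp; omega)
    have z3 : N z = 0 := hl z fun φ h => z1 φ (by simp [h])
    have z4 : N ((w⁻¹).1 z) = 0 := hl _ fun φ h => z1 _ (List.mem_append_right _
      (List.mem_map_of_mem h))
    have z5 : (g * w * g⁻¹ * w⁻¹).1 z = z := by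
      simp [mul_ap, e, e', z4, val_apply_inv, z3]
    obtain ⟨c, -, hc⟩ := Sc_ap (P.sqS hy)
    have c1 : c = 1 := by
      have := hc z
      rw [mul_ap, z5, z5] at this
      exact (smul_left_injective F (by simpa using z2) (this.symm.trans (one_smul F z).symm))
    have y2 : g * w * g⁻¹ * w⁻¹ = w * g * w⁻¹ * g⁻¹ := by
      rw [← mul_inv_eq_one]
      refine GV_ext fun v => ?_
      have := hc v
      rw [c1, one_smul] at this
      rwa [show g * w * g⁻¹ * w⁻¹ * (w * g * w⁻¹ * g⁻¹)⁻¹ =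
        g * w * g⁻¹ * w⁻¹ * (g * w * g⁻¹ * w⁻¹) by group]
    have y3 := congrArg Units.val y2
    simp only [Units.val_mul, e, e'] at y3
    set N' := w.1 * N * (w⁻¹).1 with hN
    have y4 : (1 + N) * (1 - N') = (1 + N') * (1 - N) := by
      rw [← w.mul_inv, hN]
      calc _ = (1 + N) * w.1 * (1 - N) * (w⁻¹).1 := by rw [w.mul_inv]; noncomm_ring [w.mul_inv]
        _ = w.1 * (1 + N) * (w⁻¹).1 * (1 - N) := y3
        _ = _ := by rw [w.mul_inv]; noncomm_ring [w.mul_inv]
    have two : ∀ f : End F V, f + f = 0 → f = 0 := fun f hf => by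
      rw [← two_smul F f] at hf
      exact (smul_eq_zero.1 hf).resolve_left P.two
    have y5 : N * N' * N = 0 := two _ (by
      have := congrArg (fun f => N * f * N) y4
      simp only [mul_add, add_mul, mul_sub, sub_mul, mul_one, one_mul, ← mul_assoc, h0, zero_mul,
        mul_assoc _ N N, mul_zero] at this
      exact neg_eq_zero.1 (by rw [← sub_eq_zero] at this; rw [← this]; abel))
    have y6 : N * N' = 0 := two _ (by
      have := congrArg (fun f => N * f) y4
      simp only [mul_add, add_mul, mul_sub, sub_mul, mul_one, one_mul, ← mul_assoc, h0, zero_mul,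
        y5] at this
      exact neg_eq_zero.1 (by rw [← sub_eq_zero] at this; rw [← this]; abel))
    simpa [hN, ← mul_assoc] using congrArg (· * w.1) y6
  haveI := P.nt
  ext x
  by_contra hx
  have hφ : ∀ φ : Dual F V, φ ∘ₗ N = 0 := fun φ => by
    by_contra hφ
    obtain ⟨y, hy, e⟩ := P.exists_ne hx hφ
    exact e (by simpa using congrArg (fun f : End F V => φ (f x)) (key y hy))
  obtain ⟨φ, e⟩ := Projective.exists_dual_ne_zero F hx
  exact e (LinearMap.congr_fun (hφ φ) x)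

theorem Pa.tv_not_nrm (P : Pa R) (hn : 2 < finrank F V) {v : V} {φ : Dual F V} (hv : v ≠ 0)
    (hφ : φ ≠ 0) (h0 : φ v = 0) (e : ∀ x, g.1 x = x + φ x • v) : g ∉ Nrm R := fun hg => by
  have := P.unip_nrm (N := φ.smulRight v) (by ext x; simp [h0]) (by ext x; simp [e]) [φ]
    (fun x hx => by simp [hx φ]) (by simpa using hn) hg
  refine hφ (LinearMap.ext fun x => ?_)
  simpa [hv] using LinearMap.congr_fun this x

theorem Isom.T (h2 : (2 : F) ≠ 0) (ha : a * a = -1) (i : Isom B a) (x y : V) :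
    B ((T a).1 x) ((T a).1 y) = 2 * B x y := by
  rw [T_ap h2 ha, T_ap h2 ha]
  simp only [map_add, LinearMap.add_apply, i x y]
  rw [i.adj, inv_of_sq ha, neg_ap, map_neg]; ring

theorem isom_TT (h2 : (2 : F) ≠ 0) (ha : a * a = -1) (hc : c * c = -1) (i : Isom B a)
    (i' : Isom B c) : Isom B ((T a)⁻¹ * T c) := fun x y =>
  mul_left_cancel₀ h2 (by rw [← i.T h2 ha, mul_ap, mul_ap, val_apply_inv, val_apply_inv, i'.T h2 hc])

theorem Pa.det_TT (P : Pa R) (hR : Rich R) (hn : 4 < finrank F V ^ 2) (ha : NN R a)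
    (hc : NN R c) : toE F V ((T a)⁻¹ * T c) ∈ SLV F V := by
  obtain ⟨k, -, e⟩ := CM.trans (M := ⊤) ⟨P, le_top, le_top, fun _ _ _ _ => trivial⟩ hR hn ha.1 hc.1
    ha.2.2 hc.2.2 (ha.2.1.trans hc.2.1.symm)
  rw [← e, ← T_conj P.two ha.2.1, SLV, MonoidHom.mem_ker]
  simp only [map_mul, map_inv]
  rw [mul_comm (LinearEquiv.det (toE F V k))]
  group

theorem le_of_ME {G : Subgroup (V ≃ₗ[F] V)} (h : G ≤ ME M) :
    G.comap (toE F V : GV F V →* _) ≤ M := fun g hg => mem_ME.1 (h hg)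

theorem Pa.max_sl (P : Pa R) (hI : HasI R) (hn : 4 ≤ finrank F V) (h3 : (3 : F) ≠ 0)
    (pf : ∀ a : F, PF a) : IsMaximalIn ((SLV F V).comap (toE F V : GV F V →* _))
      (Subgroup.normalizer (R : Set (GV F V)) ⊓ (SLV F V).comap (toE F V : GV F V →* _)) := by
  have hn' : 4 < finrank F V ^ 2 := by nlinarith
  refine P.max_of hn' (P.bk_of_hasI hI _) (fun a c => P.det_TT (Or.inl hI) hn') ?_
    fun M hM C => (C.main_l hI hn h3 pf).imp id fun h => le_of_ME (SLV_le fun v φ e =>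
      t1_of_sup e (h v φ e))
  haveI := P.nt
  obtain ⟨x, hx⟩ := _root_.exists_ne (0 : V)
  obtain ⟨φ, e⟩ := Projective.exists_dual_ne_zero F hx
  obtain ⟨v, -, v1, v2⟩ := exists_ker_list [φ] (W := ⊤) (S := ⊥) (by simp; omega)
  have v3 : φ v = 0 := v1 φ (by simp)
  refine ⟨(toE F V).symm (tv v φ v3), by simpa using tv_mem_SLV v φ v3,
    P.tv_not_nrm (by omega) (by simpa using v2) (fun h => e (by simp [h])) v3 fun x => ?_⟩
  rw [← toE_apply, MulEquiv.apply_symm_apply, tv_apply]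

theorem Pa.max_su (P : Pa R) (hI : HasI R) (hn : 4 ≤ finrank F V) (uf : UF.{u, v} σ)
    (skew : ∀ x y, B y x = -σ (B x y)) (nd : ∀ x, (∀ y, B x y = 0) → x = 0)
    (iso : ∀ x ∈ R, Isom B x) : IsMaximalIn ((GG B).comap (toE F V : GV F V →* _))
      (Subgroup.normalizer (R : Set (GV F V)) ⊓ (GG B).comap (toE F V : GV F V →* _)) := by
  have hn' : 4 < finrank F V ^ 2 := by nlinarith
  have S := uf.uh V B skew nd
  refine P.max_of hn' (P.bk_of_hasI hI _) (fun a c ha hc => ⟨isom_iff.1 (isom_TT P.two ha.2.1 hc.2.1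
    (iso a ha.1) (iso c hc.1)), P.det_TT (Or.inl hI) hn' ha hc⟩) ?_
    fun M hM C => (C.main_u hI hn ⟨uf, skew, nd, iso, si_sup fun g hg =>
      isom_iff.2 (hM hg).1⟩).imp id fun h => le_of_ME (S.gen _ fun v hv c hc =>
      t1_of_sup (by simp [hv]) (Has.mono (S.exists_tvS hv hc) h))
  obtain ⟨v, v1, v2, -⟩ := exists_iso S [] (by simp; omega)
  obtain ⟨t, t1, t2⟩ := S.exists_tvS v2 (map_one σ)
  refine ⟨(toE F V).symm t, by simpa using t1,
    P.tv_not_nrm (by omega) v1 (nd_ne nd v1) v2 fun x => ?_⟩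
  rw [← toE_apply, MulEquiv.apply_symm_apply, t2, one_smul]

theorem cent_of_span
    (hs : Submodule.span F ((fun x : GV F V => x.1) '' (R : Set (GV F V))) = ⊤) [Nontrivial V]
    (h : ∀ g ∈ R, g * z = z * g) : z ∈ Sc F V := by
  obtain ⟨c, hc⟩ := end_cent (f := z.1) fun f => by
    have hf : f ∈ Submodule.span F ((fun x : GV F V => x.1) '' (R : Set (GV F V))) := by
      rw [hs]; trivial
    induction hf using Submodule.span_induction with
    | mem x hx =>
      obtain ⟨g, hg, rfl⟩ := hx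
      exact congrArg Units.val (h g hg)
    | zero => simp
    | add x y _ _ a b => rw [add_mul, mul_add, a, b]
    | smul c x _ a => rw [smul_mul_assoc, mul_smul_comm, a]
  exact mem_Sc_of hc

theorem pa_of [Nontrivial V]
    (hs : Submodule.span F ((fun x : GV F V => x.1) '' (R : Set (GV F V))) = ⊤)
    (h4 : ∀ x : R, x ^ 4 = 1) (hc : commutator R ≤ Subgroup.center R)
    (hz : 2 ∣ Nat.card (Subgroup.center R)) : Pa R := by
  haveI := finite_GV (F := F) (V := V)
  have h4' : ∀ x ∈ R, x ^ 4 = 1 := fun x hx => congrArg Subtype.val (h4 ⟨x, hx⟩)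
  have zc : ∀ z : R, z ∈ Subgroup.center R → z.1 ∈ Sc F V := fun z hz =>
    cent_of_span hs fun g hg => congrArg Subtype.val (Subgroup.mem_center_iff.1 hz ⟨g, hg⟩)
  haveI : Fact (Nat.Prime 2) := ⟨Nat.prime_two⟩
  obtain ⟨z, hz⟩ := exists_prime_orderOf_dvd_card' 2 hz
  have z1 : z.1.1 ≠ 1 := fun e => by
    rw [show z = 1 from Subtype.ext (Subtype.ext e)] at hz; simp at hz
  have z2 : z.1.1 = -1 := (Sc_sq (zc _ z.2) (by
    have := pow_orderOf_eq_one z
    rw [hz, sq] at this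
    exact congrArg (fun t : Subgroup.center R => t.1.1) this)).resolve_left z1
  have cm : ∀ x ∈ R, ∀ y ∈ R, x * y = y * x ∨ x * y = -(y * x) := fun x hx y hy => by
    have h0 : ⁅(⟨x, hx⟩ : R), (⟨y, hy⟩ : R)⁆ ∈ commutator R := by
      rw [commutator_def]
      exact Subgroup.commutator_mem_commutator (Subgroup.mem_top _) (Subgroup.mem_top _)
    have h1 : x * y * x⁻¹ * y⁻¹ ∈ Sc F V := zc _ (hc h0)
    have h2 := h4' _ (mul_mem (mul_mem (mul_mem hx hy) (inv_mem hx)) (inv_mem hy))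
    generalize hd : x * y * x⁻¹ * y⁻¹ = d at h1 h2
    have e : x * y = d * (y * x) := by rw [← hd]; group
    have a1 := H98.mul_pow_of_central_comm (Sc_comm h1) e 4
    rw [h4' _ (mul_mem hy hx), h4' x hx, h4' y hy, mul_one, mul_one,
      show Nat.choose 4 2 = 4 + 2 from rfl, pow_add, h2, one_mul, sq] at a1
    rcases Sc_sq h1 a1.symm with h | h <;> simp [e, h]
  refine ⟨fun h2 => z1 ?_, inferInstance, z2 ▸ z.1.2, cm, fun x hx => Sc_sq (cent_of_span hs
    fun g hg => ?_) ?_, hs⟩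
  · rw [z2]
    refine GV_ext fun v => ?_
    rw [neg_ap, one_ap, neg_eq_iff_add_eq_zero, ← two_smul F v, h2, zero_smul]
  · rcases cm g hg x hx with h | h
    · rw [← mul_assoc, h, mul_assoc, h, mul_assoc]
    · rw [← mul_assoc, h, neg_mul, mul_assoc, h, mul_neg, neg_neg, mul_assoc]
  · rw [← h4' x hx]; simp only [pow_succ, pow_zero, one_mul, mul_assoc]

theorem Pa.hasI_of (P : Pa R) (hc : IsCyclic (Subgroup.center R))
    (hz : Nat.card (Subgroup.center R) = 4) : HasI R := by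
  obtain ⟨z, e⟩ := hc.exists_ofOrder_eq_natCard
  haveI := P.nt
  refine ⟨z.1.1, z.1.2, cent_of_span P.span fun g hg =>
    congrArg Subtype.val (Subgroup.mem_center_iff.1 z.2 ⟨g, hg⟩),
    (P.sq _ z.1.2).resolve_left fun h => ?_⟩
  have := orderOf_dvd_of_pow_eq_one (show z ^ 2 = 1 from Subtype.ext (Subtype.ext (by
    rw [_root_.sq]; exact h)))
  rw [e, hz] at this
  omega

end GV

theorem pf_of_pow {F : Type*} [Field F] [Finite F] (p : ℕ) [Fact p.Prime] [CharP F p] {a : F}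
    (h : a ^ p = a) : PF a := by
  obtain ⟨n, rfl⟩ := (mem_bot_iff_intCast p F).1 ((Subfield.mem_bot_iff_pow_eq_self F p).2 h)
  obtain ⟨m, rfl | rfl⟩ := n.eq_nat_or_neg
  · simpa using PF.nat m
  · simpa using (PF.nat m).neg

theorem pf_of_card {F : Type*} [Field F] [Fintype F] {p : ℕ} (hp : p.Prime)
    (h : Fintype.card F = p) (a : F) : PF a := by
  haveI := Fact.mk hp
  haveI : CharP F p := charP_of_card_eq_prime h
  exact pf_of_pow p (h ▸ FiniteField.pow_card a)

section Mat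

variable {ι : Type} [Fintype ι] [DecidableEq ι] {F : Type u} [Field F] [Finite F]
variable {R : Subgroup (GL ι F)}

/-- A matrix group as a group of units of the endomorphism ring. -/
noncomputable def mG (R : Subgroup (GL ι F)) : Subgroup (GV F (ι → F)) :=
  R.map (Matrix.GeneralLinearGroup.toLin : GL ι F ≃* GV F (ι → F))

/-- The isomorphism onto the image. -/
noncomputable def mE (R : Subgroup (GL ι F)) : R ≃* mG R := MulEquiv.subgroupMap _ R

theorem max_mat {G : Subgroup ((ι → F) ≃ₗ[F] (ι → F))}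
    (h : IsMaximalIn (G.comap (toE F (ι → F) : GV F (ι → F) →* _))
      (Subgroup.normalizer (mG R : Set (GV F (ι → F))) ⊓
        G.comap (toE F (ι → F) : GV F (ι → F) →* _))) :
    IsMaximalIn (G.comap (toLE ι F : GL ι F →* _))
      (subgroupNormalizer R ⊓ G.comap (toLE ι F : GL ι F →* _)) := by
  have := isMaximalIn_comap (Matrix.GeneralLinearGroup.toLin : GL ι F ≃* GV F (ι → F)) h
  rw [Subgroup.comap_inf, Subgroup.comap_normalizer_eq_of_surjective _ (MulEquiv.surjective _), mG,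
    Subgroup.comap_map_eq_self_of_injective (MulEquiv.injective _)] at this
  exact this

theorem card_center_mG : Nat.card (Subgroup.center (mG R)) = Nat.card (Subgroup.center R) :=
  Nat.card_congr (Subgroup.centerCongr (mE R)).symm.toEquiv

theorem pa_mG [Nonempty ι] (hR : IsSymplecticTypeGroup 2 R)
    (hi : ActsAbsolutelyIrreducibly (matrixSet R)) (hc : commutator R ≤ Subgroup.center R)
    (hz : 2 ∣ Nat.card (Subgroup.center R)) : Pa (mG R) := by
  refine pa_of ?_ (fun x => ?_) (fun x hx => ?_) (by rwa [card_center_mG])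
  · have h1 := H98.grpAlg_toSubmodule R
    rw [H98.grpAlg_eq_top_of_absIrr hi, Algebra.top_toSubmodule] at h1
    have h2 := congrArg (Submodule.map (Matrix.toLin' (R := F) (m := ι) (n := ι)).toLinearMap) h1
    rw [Submodule.map_top, LinearEquiv.range, Submodule.map_span] at h2
    rw [h2, mG, matrixSet, Subgroup.coe_map, Set.image_image, Set.image_image]
    rfl
  · obtain ⟨y, rfl⟩ := (mE R).surjective x
    have := Monoid.pow_exponent_eq_one y
    rw [hR.exponent_eq] at this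
    rw [← map_pow, show y ^ 4 = 1 from this, map_one]
  · obtain ⟨y, rfl⟩ := (mE R).surjective x
    have h1 : commutator (mG R) ≤ (commutator R).map (mE R : R →* mG R) := by
      rw [map_commutator_eq, MonoidHom.range_eq_top_of_surjective _ (mE R).surjective]; rfl
    obtain ⟨z, z1, z2⟩ := h1 hx
    rw [← z2]
    exact (Subgroup.centerCongr (mE R) ⟨z, hc z1⟩).2

theorem pa_four [Nonempty ι] (hR : IsSymplecticTypeGroup 2 R)
    (hi : ActsAbsolutelyIrreducibly (matrixSet R)) (hz : Nat.card (Subgroup.center R) = 4) :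
    Pa (mG R) ∧ HasI (mG R) := by
  have P := pa_mG hR hi (H98.commutator_le_center_of_symplecticType hR hz) (by rw [hz]; norm_num)
  refine ⟨P, P.hasI_of ?_ (card_center_mG.trans hz)⟩
  haveI := hR.cyclic_of_characteristic (Subgroup.center R) inferInstance inferInstance
  exact isCyclic_of_surjective _ (Subgroup.centerCongr (mE R)).surjective

end Mat

variable {F : Type u} [Field F] [Fintype F]

theorem isMaximalIn_sl {n : ℕ} (hn : 4 ≤ n) {p : ℕ} (hp : p.Prime) (hF : Fintype.card F = p)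
    (h4 : p % 4 = 1) {R : Subgroup (GL (Fin n) F)} (hR : IsLinearSymplecticTypeData 2 R) :
    IsMaximalIn (specialLinear (Fin n) F) (subgroupNormalizer R ⊓ specialLinear (Fin n) F) := by
  haveI : Nonempty (Fin n) := ⟨⟨0, by omega⟩⟩
  obtain ⟨p', e, -, -, h⟩ := hR.field
  have hz : Nat.card (Subgroup.center R) = 4 := by
    rcases h with h | h | h
    · exact absurd h.1 (by decide)
    · exact h.2.2.1
    · have := h.2.2.1; simp at this; omega
  obtain ⟨P, hI⟩ := pa_four hR.symplecticType hR.absIrred hz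
  rw [← comap_SLV]
  refine max_mat (P.max_sl hI (by simpa using hn) (fun h3 => ?_) (pf_of_card hp hF))
  haveI := Fact.mk hp
  haveI : CharP F p := charP_of_card_eq_prime hF
  have := (Nat.prime_dvd_prime_iff_eq hp Nat.prime_three).1
    ((CharP.cast_eq_zero_iff F p 3).1 (by simpa using h3))
  omega

theorem isMaximalIn_su {n : ℕ} (hn : 4 ≤ n) {q : ℕ} (hF : Fintype.card F = q ^ 2) (hq : q.Prime)
    (h2 : q ≠ 2) {R : Subgroup (GL (Fin n) F)} (hR : IsSymplecticTypeGroup 2 R)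
    (hi : ActsAbsolutelyIrreducibly (matrixSet R)) (hle : R ≤ Cfsg.GU n F q)
    (hz : Nat.card (Subgroup.center R) = 4) :
    IsMaximalIn (Cfsg.GU n F q ⊓ specialLinear (Fin n) F)
      (subgroupNormalizer R ⊓ (Cfsg.GU n F q ⊓ specialLinear (Fin n) F)) := by
  haveI : Nonempty (Fin n) := ⟨⟨0, by omega⟩⟩
  haveI := Fact.mk hF
  haveI := Fact.mk hq
  haveI : CharP F q := charP_of_card_eq_prime_pow hF
  obtain ⟨P, hI⟩ := pa_four hR hi hz
  obtain ⟨ζ, h0, hζ⟩ := H10.exists_skew F q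
  have S := skH_su (n := n) (fun h => h2 h.2) h0 hζ
  rw [← comap_GG_su h0]
  refine max_mat (P.max_su hI (by simpa using hn) ⟨fun a ha => pf_of_pow q ha,
    fun W _ _ _ C a b => H98.uH_of a b fun h => h2 h.2⟩ S.skew S.nd ?_)
  rintro _ ⟨x, hx, rfl⟩
  have := hle hx
  rw [← comap_Iso_su h0] at this
  exact this

end Cfsg.Agent.C6
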