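import Cfsg.Agent.C6.Spec4

/-! Normalisers of symplectic type `2`-groups: the linear and the unitary case. -/

set_option autoImplicit false
set_option linter.unusedSectionVars false
set_option linter.unusedVariables false
set_option linter.unusedSimpArgs false

namespace Cfsg.Agent.C6

open Module Cfsg.Agent.H27

universe u v

variable {F : Type u} {V : Type v} [Field F] [AddCommGroup V] [Module F V]
variable [Finite F] [FiniteDimensional F V] {σ : F →+* F} {B : V →ₛₗ[σ] V →ₗ[F] F}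
variable {R K L M : Subgroup (GV F V)} {a b c d g h j k r s t u w w' x y z : GV F V}

theorem CM.lift_nn (P : CM R M) (I : Iv R w) (hB : Bk (rs w R) (rs w M))
    (h : rs w M ≤ Nrm (rs w R)) (hg : g ∈ M) (h1 : ip g w = 0) (hx : NN R x) (h2 : ip x w = 0)
    (h3 : ¬ Sp [w] x) : ∃ a, NN R a ∧ ip a w = 0 ∧ ¬ Sp [w] a ∧
      ∀ v ∈ Vp w, (g * x * g⁻¹).1 v = a.1 v := by
  obtain ⟨g', o⟩ := ex_on_Vp h1
  obtain ⟨x', o'⟩ := ex_on_Vp h2
  have h4 := P.nn_res I hx h2 h3 o'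
  have h5 : g' ∈ rs w M := mem_rs.2 ⟨g, hg, h1, o⟩
  obtain ⟨a, a1, a2, a3, a4⟩ := P.nn_lift I (h4.conj hB h5 (mem_Nrm_apply (h h5) h4.RS))
  exact ⟨a, a1, a2, a3, fun v hv => (o.conj o').eq a4 hv⟩

theorem Pa.exists_joint (P : Pa R) (I : Iv R w) (I' : Iv R w') (h : ip w' w = 0)
    (h1 : ¬ Sp [w] w') : ∃ v, v ≠ 0 ∧ v ∈ Vp w ∧ v ∈ Vp w' := by
  obtain ⟨t, o⟩ := ex_on_Vp h
  obtain ⟨v, hv, v0⟩ := Vp_ne P.two (o.sq' I'.sq) (mt (P.on_mem_Sc I I'.mem o).1 h1)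
  exact ⟨v, fun e => v0 (Subtype.ext e), v.2, mem_Vp.2 (by rw [← o, mem_Vp.1 hv])⟩

theorem CM.not_ctrl (P : CM R M) (I : Iv R w) (I' : Iv R w') (h : rs w' M ≤ Nrm (rs w' R))
    (ha : NN R a) (hc : NN R c) (a1 : ip a w = 0) (c1 : ip c w = 0) (hk : k ∈ M)
    (k1 : ∀ v ∈ Vp w, k.1 v = v) (k2 : ∀ v ∈ Vp (-w), k.1 v = (T c * (T a)⁻¹).1 v)
    (w1 : ip w' w = 0) (w2 : ip a w' = 0) (w3 : ip c w' = 0) (w4 : ¬ Sp [w] w') (hx : x ∈ R)
    (x1 : ip x w = 0) (x2 : ip x w' = 0) (x3 : ip a x = 0) (x4 : ip c x = 1) : False := by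
  have h2 := P.two
  have t1 : ∀ {y}, ip a y = 0 → ip c y = 0 → ip (T c * (T a)⁻¹) y = 0 := fun e1 e2 =>
    ip_mul_zero (ip_T h2 hc.2.1 e2) ((ip_inv_left _ _).trans (ip_T h2 ha.2.1 e1))
  have kw : ip k w' = 0 := ip_eq_zero.2 (Vp_ext h2 I.sq
    (fun v hv => by rw [mul_ap, mul_ap, k1 v hv, k1 _ (Vp_map w1 hv)]) fun v hv => by
      rw [mul_ap, mul_ap, k2 v hv, k2 _ (Vp_map_neg w1 hv), ip_ap (t1 w2 w3)])
  have e1 : T c * (T a)⁻¹ * x = c * x * (T c * (T a)⁻¹) := by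
    rw [← P.T_conj_one hc.RS hc.2.1 (le_RS hx) x4, mul_assoc (T c), ip_eq_zero.1
      ((ip_inv_left _ _).trans (ip_T h2 ha.2.1 x3))]
    group
  obtain ⟨k', o⟩ := ex_on_Vp kw
  obtain ⟨x', o'⟩ := ex_on_Vp x2
  have X' := le_RS (mem_rs.2 ⟨x, hx, x2, o'⟩)
  obtain ⟨r, hr, r1, r2⟩ := mem_RS_rs.1 ((RS _).mul_mem
    (mem_Nrm_apply (h (mem_rs.2 ⟨k, hk, kw, o⟩)) X') ((RS _).inv_mem X'))
  have r3 := fun v => ((o.conj o').mul o'.inv).eq r2 (v := v)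
  have xi : ip x⁻¹ w = 0 := (ip_inv_left _ _).trans x1
  have hl : ∀ a ∈ [w, w'], a ∈ RS R := by simp [I.mem, I'.mem]
  obtain ⟨v, v0, v1, v2⟩ := P.exists_joint I I' w1 w4
  have s1 := P.sp_of_scOn (W := Vp w ⊓ Vp w') hl hr ⟨v1, v2⟩ v0
    (fun r _ e => ⟨Vp_map (e w (by simp)) v1, Vp_map (e w' (by simp)) v2⟩)
    ⟨1, one_ne_zero, fun v hv => by
      have := Vp_map xi hv.1
      rw [← r3 v hv.2, mul_ap, mul_ap, inv_ap (k1 _ this), mul_ap, val_apply_inv, k1 v hv.1,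
        one_smul]⟩
  obtain ⟨p, p0, p1, p2⟩ := P.exists_joint I.neg I' ((ip_neg_right _ _).trans w1)
    (mt sp_neg_one.1 w4)
  obtain ⟨m, hm, s2⟩ : r ∈ ScOn (Vp (-w) ⊓ Vp w') := s1.mem (fun _ => Sc_le_ScOn) (by
    simp only [List.forall_mem_cons]
    exact ⟨⟨-1, by simp, fun v hv => by rw [mem_Vp_neg.1 hv.1, neg_one_smul]⟩,
      ⟨1, one_ne_zero, fun v hv => by rw [mem_Vp.1 hv.2, one_smul]⟩, by simp⟩)
  have s3 := P.sp_of_scOn (W := Vp (-w) ⊓ Vp w') hl hc.RS ⟨p1, p2⟩ p0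
    (fun r _ e => ⟨Vp_map_neg (e w (by simp)) p1, Vp_map (e w' (by simp)) p2⟩)
    ⟨m, hm, fun v hv => by
      have b1 := Vp_map_neg ((ip_inv_left _ _).trans (t1 a1 c1)) (Vp_map_neg xi hv.1)
      rw [← s2 v hv, ← r3 v hv.2, mul_ap, mul_ap, inv_ap ((k2 _ b1).trans (val_apply_inv _ _)),
        mul_ap, k2 _ (Vp_map_neg x1 b1), ← mul_ap _ x, e1, mul_ap, val_apply_inv, mul_ap,
        val_apply_inv]⟩
  rw [ip_comm, s3.ip (by simp [x1, x2])] at x4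
  exact zero_ne_one x4

theorem CM.conj_mem_or (P : CM R M) (hI : HasI R) (hn : 4 ≤ finrank F V)
    (h : ∀ w ∈ R, Iv R w → rs w M ≤ Nrm (rs w R)) (I : Iv R w) (hw : w ∈ R) (hg : g ∈ M)
    (h1 : ip g w = 0) (hx : NN R x) (h2 : ip x w = 0) (h3 : ¬ Sp [w] x) :
    g * x * g⁻¹ ∈ RS R ∨ Big M := by
  obtain ⟨j, hj, j1, j2⟩ := id hI
  have bk : ∀ {w}, Iv R w → Bk (rs w R) (rs w M) := fun I =>
    (P.rs_pa I).bk_of_hasI (P.hasI_rs I hj j2 (sp_of_Sc j1)) _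
  obtain ⟨a, ha, a1, a2, a3⟩ := P.lift_nn I (bk I) (h w hw I) hg h1 hx h2 h3
  obtain ⟨c, hc, c1, c2, c3⟩ := P.lift_nn I.neg (bk I.neg) (h _ (P.neg_mem hw) I.neg) hg
    ((ip_neg_right _ _).trans h1) hx ((ip_neg_right _ _).trans h2) (mt sp_neg_one.1 h3)
  rw [ip_neg_right] at c1
  rw [sp_neg_one] at c2
  have hu := P.nn_of_iv hj j1 j2 hw I
  have y2 := conj_sq_neg hx.2.1 g
  have hk : T (g * x * g⁻¹) * (T a)⁻¹ ∈ M := by
    have := M.mul_mem (M.mul_mem (M.mul_mem hg (P.tt_inv hx hu)) (M.inv_mem hg))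
      (M.inv_mem (P.tt_inv ha hu))
    rwa [show ∀ x y : GV F V, g * (x * y⁻¹) * g⁻¹ = g * x * g⁻¹ * (g * y * g⁻¹)⁻¹ by intros; group,
      T_conj P.two hx.2.1, T_conj P.two hu.2.1, conj_of_ip ((ip_smul_right j1 _ _).trans h1),
      show ∀ x y z : GV F V, x * y⁻¹ * (z * y⁻¹)⁻¹ = x * z⁻¹ by intros; group] at this
  generalize g * x * g⁻¹ = y at *
  have ti : ip (T a)⁻¹ w = 0 := (ip_inv_left _ _).trans (ip_T P.two ha.2.1 a1)
  have k1 : ∀ v ∈ Vp w, (T y * (T a)⁻¹).1 v = v := fun v hv => by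
    rw [mul_ap, T_ap P.two y2, a3 _ (Vp_map ti hv), ← T_ap P.two ha.2.1, val_apply_inv]
  have k2 : ∀ v ∈ Vp (-w), (T y * (T a)⁻¹).1 v = (T c * (T a)⁻¹).1 v := fun v hv => by
    rw [mul_ap, T_ap P.two y2, c3 _ (Vp_map_neg ti hv), ← T_ap P.two hc.2.1, mul_ap]
  generalize T y * (T a)⁻¹ = k at *
  by_cases h4 : Sp [w] (a * c)
  · have aw := (RS R).mul_mem ha.RS I.mem
    have : c = a ∨ c = -a ∨ c = a * w ∨ c = -(a * w) := by
      rcases h4 with e | e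
      · exact (P.eq_or_neg ha.RS (ha.2.1.trans hc.2.1.symm) e).imp id Or.inl
      · exact Or.inr (Or.inr (P.eq_or_neg aw (by rw [P.sq_mul_comm a1, ha.2.1, hc.2.1, I.sq, mul_one])
          (by rwa [ip_eq_zero.1 a1, mul_assoc])))
    have e1 : (∀ v ∈ Vp (-w), c.1 v = a.1 v) → y ∈ RS R := fun e =>
      Vp_ext P.two I.sq a3 (fun v hv => (c3 v hv).trans (e v hv)) ▸ ha.RS
    have e2 : (∀ v ∈ Vp (-w), c.1 v = -a.1 v) → y ∈ RS R := fun e =>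
      Vp_ext (h := a * w) P.two I.sq (fun v hv => by rw [a3 v hv, mul_ap, mem_Vp.1 hv])
        (fun v hv => by rw [c3 v hv, e v hv, mul_ap, mem_Vp_neg.1 hv, map_neg]) ▸ aw
    rcases this with rfl | rfl | rfl | rfl
    · exact Or.inl (e1 fun _ _ => rfl)
    · exact Or.inl (e2 fun _ _ => rfl)
    · exact Or.inl (e2 fun v hv => by rw [mul_ap, mem_Vp_neg.1 hv, map_neg])
    · exact Or.inl (e1 fun v hv => by rw [neg_ap, mul_ap, mem_Vp_neg.1 hv, map_neg, neg_neg])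
  rcases ip_cases c a with e | e
  · have I' := P.iv_of_nn hj j1 j2 ha
    obtain ⟨x, hx, x1, x2⟩ := P.exists_sep (l := [a, w]) (by simp [ha.RS, I.mem]) hc.RS
      fun e => e.elim c2 h4
    exact (P.not_ctrl I I' (h _ (R.mul_mem hj ha.1) I') ha hc a1 c1 hk k1 k2
      ((ip_smul_left j1 _ _).trans a1) ((ip_smul_right j1 _ _).trans (ip_self a))
      ((ip_smul_right j1 _ _).trans e) (mt (sp_smul j1).1 a2) hx (x1 w (by simp))
      ((ip_smul_right j1 _ _).trans (x1 a (by simp))) ((ip_comm _ _).trans (x1 a (by simp)))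
      ((ip_comm _ _).trans x2)).elim
  rcases hn.eq_or_lt with hn | hn
  · exact Or.inr (P.spec4 hI hn.symm I hw ha hc a1 c1 e hk k1 k2)
  obtain ⟨z, hz, z1, z2⟩ := P.exists_comm (l := [w, a, c]) (by simp [ha.RS, hc.RS, I.mem]) [w]
    (by simp; nlinarith)
  obtain ⟨s, hs, s1, s2⟩ := P.exists_rep hI (le_RS hz) (Or.inl rfl)
  have s3 := mt (sp_smul hs).1 z2
  have s4 : ∀ b ∈ [w, a, c], ip b (s * z) = 0 := fun b hb => by
    rw [ip_smul_right hs, ip_comm, z1 b hb]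
  have I' : Iv R (s * z) := ⟨le_RS s1, s2, fun e => s3 (sp_of_Sc e)⟩
  exact (P.not_ctrl I I' (h _ s1 I') ha hc a1 c1 hk k1 k2 ((ip_comm _ _).trans (s4 w (by simp)))
    (s4 a (by simp)) (s4 c (by simp)) s3 ha.1 a1 (s4 a (by simp)) (ip_self a) e).elim

theorem CM.lu_step (P : CM R M) (hI : HasI R) (hn : 4 ≤ finrank F V)
    (h : ∀ w ∈ R, Iv R w → rs w M ≤ Nrm (rs w R)) : M ≤ Nrm R ∨ Big M := by
  refine or_iff_not_imp_right.2 fun hB => ?_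
  have h4 : 4 < finrank F V ^ 2 := by nlinarith
  obtain ⟨j, hj, j1, j2⟩ := id hI
  refine P.le_Nrm_of_ti hI h4 fun a => P.ti_of_cn (P.bk_of_hasI hI M) (Or.inl hI) h4
    fun a ha g hg h1 x hx h2 => ?_
  have I := P.iv_of_nn hj j1 j2 ha
  rw [← ip_smul_right j1] at h1 h2
  by_cases h3 : Sp [j * a] x
  · exact ((sp_conj_fix h1).2 h3).mem (fun _ => Sc_le_RS) (by simpa using I.mem)
  obtain ⟨s, hs, s1, s2⟩ := P.exists_rep hI (le_RS hx) (Or.inr rfl)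
  have s3 := mt (sp_smul hs).1 h3
  have := (P.conj_mem_or hI hn h I (R.mul_mem hj ha.1) hg h1 ⟨s1, s2, fun e => s3 (sp_of_Sc e)⟩
    ((ip_smul_left hs _ _).trans h2) s3).resolve_right hB
  rwa [← mul_assoc, ← Sc_comm hs, mul_assoc, mul_assoc,
    (RS R).mul_mem_cancel_left (Sc_le_RS hs), ← mul_assoc] at this

theorem lu_aux (n : ℕ) : ∀ (V : Type v) [AddCommGroup V] [Module F V] [FiniteDimensional F V]
    (R M : Subgroup (GV F V)), finrank F V = n → CM R M → HasI R → Ty σ R M →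
    OddM R M ∨ 4 ≤ n → M ≤ Nrm R ∨ (Big M ∧ (4 ≤ n ∨ (3 : F) ≠ 0)) := by
  induction n using Nat.strong_induction_on with
  | _ n ih =>
  intro V _ _ _ R M hn P hI hT hO
  have := P.nt
  have h0 : 0 < finrank F V := finrank_pos
  by_cases h1 : n = 1
  · refine Or.inl fun g _ => Sc_le_Nrm ?_
    obtain ⟨v, v0, hv⟩ := finrank_eq_one_iff'.1 (hn.trans h1)
    obtain ⟨c, e⟩ := hv (g.1 v)
    refine mem_Sc_of (c := c) (LinearMap.ext fun x => ?_)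
    obtain ⟨d, rfl⟩ := hv x
    rw [map_smul, ← e, smul_comm]; rfl
  by_cases h2 : n = 2
  · exact (P.base2 hI (hO.resolve_right (by omega)) hT (hn.trans h2)).imp id
      fun h => ⟨h.1, Or.inr h.2⟩
  obtain ⟨j, hj, j1, j2⟩ := id hI
  have h4 : 4 ≤ n := by
    obtain ⟨a, ha, -, -⟩ := P.exists_NN' (l := []) (by simp) (by simp; omega)
    have := P.finrank_Vp (P.iv_of_nn hj j1 j2 ha)
    omega
  by_cases h : ∀ w ∈ R, Iv R w → rs w M ≤ Nrm (rs w R)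
  · exact (P.lu_step hI (hn ▸ h4) h).imp id fun h => ⟨h, Or.inl h4⟩
  push Not at h
  obtain ⟨w, hw, I, h⟩ := h
  have d := P.finrank_Vp I
  obtain ⟨b1, b2⟩ := (ih _ (by omega) _ _ _ rfl (P.rs_cm I) (P.hasI_rs I hj j2 (sp_of_Sc j1))
    (hT.rs P.two hw I.sq) (Or.inl (P.rs_odd I (P.nn_of_iv hj j1 j2 hw I)
      ((sp_smul j1).2 (P.sp_of_mem (by simpa using I.mem) (by simp)))))).resolve_left h
  exact Or.inr ⟨P.b1 hI hT I hw b1 b2, Or.inl h4⟩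

/-- The linear case. -/
theorem CM.main_l (P : CM R M) (hI : HasI R) (hn : 4 ≤ finrank F V) (h3 : (3 : F) ≠ 0)
    (pf : ∀ a : F, PF a) : M ≤ Nrm R ∨ ∀ v φ, φ v = 0 → T1 (ME M) v φ :=
  (lu_aux (σ := RingHom.id F) _ V R M rfl P hI (Or.inl ⟨h3, pf⟩) (Or.inr hn)).imp id fun h =>
    P.tvl hI (by nlinarith) pf h.1

/-- The unitary case. -/
theorem CM.main_u (P : CM R M) (hI : HasI R) (hn : 4 ≤ finrank F V) (U : UT B R M) :
    M ≤ Nrm R ∨ GG B ≤ ME M :=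
  (lu_aux _ V R M rfl P hI (Or.inr ⟨B, U⟩) (Or.inr hn)).imp id fun h =>
    P.tvu hI (by nlinarith) U h.1

end Cfsg.Agent.C6
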