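import Cfsg.Agent.C6.LU

/-! The real types: the case where all centralisers normalise. -/

set_option autoImplicit false
set_option linter.unusedSectionVars false
set_option linter.unusedVariables false
set_option linter.unusedSimpArgs false

namespace Cfsg.Agent.C6

open Module Cfsg.Agent.H27

universe u v

variable {F : Type u} {V : Type v} [Field F] [AddCommGroup V] [Module F V]
variable [Finite F] [FiniteDimensional F V]
variable {R K M : Subgroup (GV F V)} {a b c d g h j k r s t u w x y z y' z' : GV F V}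

/-- The scalars of `R` have square one. -/
def NoI (R : Subgroup (GV F V)) : Prop := ∀ s ∈ R, s ∈ Sc F V → s * s = 1

/-- Commuting non-scalar involutions agree modulo scalars. -/
def MT (R : Subgroup (GV F V)) : Prop :=
  ∀ x ∈ R, ∀ y ∈ R, x * x = 1 → y * y = 1 → ip x y = 0 → x ∉ Sc F V → y ∉ Sc F V → x * y ∈ Sc F V

theorem Sc_swap (h : x * y ∈ Sc F V) : y * x ∈ Sc F V := by
  simpa [mul_assoc] using (conj_mem_Sc (g := y)).2 h

theorem Sc_trans (hy : y * y = -1) (h1 : x * y ∈ Sc F V) (h2 : y * z ∈ Sc F V) :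
    x * z ∈ Sc F V := by
  have := mul_mem h1 h2
  rwa [mul_assoc, ← mul_assoc y, hy, neg_one_mul, mul_neg, neg_mem_Sc] at this

theorem Sc_cj (g : GV F V) (h : x * y ∈ Sc F V) : g * x * g⁻¹ * (g * y * g⁻¹) ∈ Sc F V := by
  simpa [mul_assoc] using (conj_mem_Sc (g := g)).2 h

theorem Sc_cj' (g : GV F V) (h : g * x * g⁻¹ * (g * y * g⁻¹) ∈ Sc F V) : x * y ∈ Sc F V := by
  simpa [mul_assoc] using Sc_cj g⁻¹ h

theorem Pa.nn_mul (P : Pa R) (ha : NN R a) (hb : NN R b) (e : ip a b = 1) : NN R (a * b) :=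
  ⟨mul_mem ha.1 hb.1, by rw [P.sq_mul_anti ha.RS hb.RS e, ha.2.1, hb.2.1]; simp,
    not_Sc_of_ip (y := b) (by rw [P.ip_mul_left ha.RS hb.RS hb.RS, e, ip_self, add_zero])⟩

theorem Pa.conj_Sc (P : Pa R) (hg : g ∈ RS R) (ha : NN R a) : a * (g * a * g⁻¹) ∈ Sc F V := by
  have := P.conj_mul_inv hg ha.RS
  rw [inv_of_sq ha.2.1, mul_neg, neg_mem_Sc] at this
  exact Sc_swap this

theorem Pa.fxc (P : Pa R) (hs : NoI R) (hy : NN R y) (hz : NN R z) (hy' : NN R y') (hz' : NN R z')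
    (e : ip y z = 0) (e' : ip y' z' = 0) (n' : y' * z' ∉ Sc F V)
    (h : T y' * T z' * (T y * T z)⁻¹ ∈ RS R) : y * y' ∈ Sc F V ∨ z * y' ∈ Sc F V := by
  have h1 : Sp [y, z] y' := P.sep (by simp [hy.RS, hz.RS]) hy'.RS fun r hr h1 => by
    by_contra h2
    have h3 : ip y' r = 1 := (ip_comm _ _).trans (ip_one_of h2)
    have h4 : ip (T y * T z)⁻¹ r = 0 := (ip_inv_left _ _).trans (ip_mul_zero
      (ip_T P.two hy.2.1 ((ip_comm _ _).trans (h1 y (by simp))))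
      (ip_T P.two hz.2.1 ((ip_comm _ _).trans (h1 z (by simp)))))
    have h5 := P.conj_mul_inv h (le_RS hr)
    rw [conj_mul, conj_of_ip h4, conj_mul] at h5
    rcases ip_cases z' r with h6 | h6
    · rw [T_conj_comm P.two hz'.2.1 h6, P.T_conj_one hy'.RS hy'.2.1 (le_RS hr) h3,
        mul_inv_cancel_right] at h5
      exact hy'.2.2 h5
    · rw [P.T_conj_one hz'.RS hz'.2.1 (le_RS hr) h6, P.T_conj_one hy'.RS hy'.2.1
        (mul_mem hz'.RS (le_RS hr)) (by rw [P.ip_mul_right hz'.RS (le_RS hr) hy'.RS, e', h3, zero_add]),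
        ← mul_assoc, mul_inv_cancel_right] at h5
      exact n' h5
  rcases h1 with (h1 | h1) | h1 | h1
  exacts [(hy'.2.2 h1).elim, Or.inr h1, Or.inl h1, by
    have h2 := hs _ (mul_mem hz.1 (mul_mem hy.1 hy'.1)) h1
    have h3 := ip_sc_right h1 (z * y)
    have h4 := mul_mem hz.RS hy.RS
    rw [← mul_assoc z y] at h2 h3
    rw [P.ip_mul_right h4 hy'.RS h4, ip_self, zero_add] at h3
    rw [P.sq_mul_comm h3, P.sq_mul_comm ((ip_comm _ _).trans e), hz.2.1, hy.2.1, hy'.2.1] at h2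
    exact (P.ne_neg 1 (by simpa using h2.symm)).elim]

theorem Pa.exists_anti_nn' (P : Pa R) {l : List (GV F V)} (hl : ∀ a ∈ l, a ∈ RS R) (hy : NN R y)
    (hz : z ∈ RS R) (h1 : ∀ a ∈ l, ip y a = 0) (h2 : ip y z = 0) (h3 : ¬ Sp (y :: l) z) :
    ∃ c, NN R c ∧ ip c y = 0 ∧ (∀ a ∈ l, ip c a = 0) ∧ ip c z = 1 := by
  obtain ⟨c, hc, c1, c2⟩ := P.exists_sep (l := y :: l) (by simpa [hy.RS] using hl) hz h3
  have c3 := c1 y (by simp)
  obtain ⟨x, hx, x1, x2⟩ := P.adj hc hy.1 hy.2.1 c3 (Or.inr rfl)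
  have x3 : ip x z = 1 := by
    rcases x2 with rfl | rfl
    exacts [c2, by rw [P.ip_mul_left (le_RS hc) hy.RS hz, c2, h2, add_zero]]
  refine ⟨x, ⟨hx, x1, not_Sc_of_ip x3⟩, ?_, fun a ha => ?_, x3⟩ <;> rcases x2 with rfl | rfl
  exacts [c3, ip_mul_zero c3 (ip_self y), c1 a (by simp [ha]),
    ip_mul_zero (c1 a (by simp [ha])) (h1 a ha)]

theorem Pa.exists_perp_nn (P : Pa R) (hn : 4 < finrank F V ^ 2) (ha : NN R a) (hb : NN R b) :
    ∃ c, NN R c ∧ ip c a = 0 ∧ ip c b = 0 := by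
  rcases ip_cases a b with e | e
  · exact ⟨a, ha, ip_self a, e⟩
  have hl : ∀ x ∈ [a, b], x ∈ RS R := by simp [ha.RS, hb.RS]
  obtain ⟨x, hx, x1, x2⟩ := P.exists_comm hl [] (by simpa using hn)
  have x3 := x1 a (by simp)
  have x4 := x1 b (by simp)
  obtain ⟨c, hc, c1, -⟩ := P.exists_NN hl hx x1 (by
    rintro ((h | h) | h | h)
    · exact x2 h
    · have := ip_sc_left h a
      rw [P.ip_mul_left hb.RS (le_RS hx) ha.RS, x3, ip_comm, e] at this
      exact absurd this (by decide)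
    · have := ip_sc_left h b
      rw [P.ip_mul_left ha.RS (le_RS hx) hb.RS, x4, e] at this
      exact absurd this (by decide)
    · have := ip_sc_left h b
      rw [P.ip_mul_left hb.RS (mul_mem ha.RS (le_RS hx)) hb.RS, P.ip_mul_left ha.RS (le_RS hx) hb.RS,
        x4, e, ip_self] at this
      exact absurd this (by decide))
  exact ⟨c, hc, c1 a (by simp), c1 b (by simp)⟩

theorem Pa.glue (P : Pa R) (I : Iv R w) (ha : NN R a) (hc : NN R c) (a1 : ip a w = 0)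
    (h : Sp [w] (a * c)) (c3 : ∀ v ∈ Vp w, y.1 v = c.1 v) (a3 : ∀ v ∈ Vp (-w), y.1 v = a.1 v) :
    y ∈ RS R := by
  have aw := (RS R).mul_mem ha.RS I.mem
  have : c = a ∨ c = -a ∨ c = a * w ∨ c = -(a * w) := by
    rcases h with e | e
    · exact (P.eq_or_neg ha.RS (ha.2.1.trans hc.2.1.symm) e).imp id Or.inl
    · exact Or.inr (Or.inr (P.eq_or_neg aw (by rw [P.sq_mul_comm a1, ha.2.1, hc.2.1, I.sq, mul_one])
        (by rwa [ip_eq_zero.1 a1, mul_assoc])))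
  have e1 : (∀ v ∈ Vp w, c.1 v = a.1 v) → y ∈ RS R := fun e =>
    Vp_ext P.two I.sq (fun v hv => (c3 v hv).trans (e v hv)) a3 ▸ ha.RS
  have e2 : (∀ v ∈ Vp w, c.1 v = -a.1 v) → y ∈ RS R := fun e =>
    Vp_ext (h := -(a * w)) P.two I.sq (fun v hv => by rw [c3 v hv, e v hv, neg_ap, mul_ap, mem_Vp.1 hv])
      (fun v hv => by rw [a3 v hv, neg_ap, mul_ap, mem_Vp_neg.1 hv, map_neg, neg_neg]) ▸ neg_mem_RS aw
  rcases this with rfl | rfl | rfl | rfl
  · exact e1 fun _ _ => rfl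
  · exact e2 fun _ _ => rfl
  · exact e1 fun v hv => by rw [mul_ap, mem_Vp.1 hv]
  · exact e2 fun v hv => by rw [neg_ap, mul_ap, mem_Vp.1 hv]

/-- A normal subgroup in which the elements with square `-1` have small centralisers. -/
structure KH (R K M : Subgroup (GV F V)) : Prop extends CM R M where
  bk : Bk R M
  noI : NoI R
  leM : K ≤ M
  nrm : ∀ g ∈ M, ∀ k ∈ K, g * k * g⁻¹ ∈ K
  rs : RS R ≤ K
  f1 : ∀ k ∈ K, ∀ a, NN R a → a * (k * a * k⁻¹) ∈ Sc F V → k ∈ RS R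

namespace KH

variable (S : KH R K M)
include S

theorem nn (hk : k ∈ K) (hN : k ∈ Nrm R) (ha : NN R a) : NN R (k * a * k⁻¹) :=
  ha.conj S.bk (S.leM hk) (mem_Nrm_apply hN ha.RS)

theorem f1' (hk : k ∈ K) (ha : NN R a) (e : ip k a = 0) : k ∈ RS R :=
  S.f1 k hk a ha (by rw [conj_of_ip e, ha.2.1]; exact neg_one_mem_Sc)

theorem comm_mem (hk : k ∈ K) (hy : NN R y) (hz : NN R z) :
    T (k * y * k⁻¹) * T (k * z * k⁻¹) * (T y * T z)⁻¹ ∈ K := by
  have := mul_mem hk (S.nrm _ (S.tt y z hy hz) _ (inv_mem hk))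
  rw [← T_conj S.two hy.2.1, ← T_conj S.two hz.2.1]
  convert this using 1
  group

theorem fx (hk : k ∈ K) (hN : k ∈ Nrm R) (hc : k ∉ RS R) (ha : NN R a) (hy : NN R y)
    (hz : NN R z) (e : ip y z = 0) (n : y * z ∉ Sc F V) (y1 : ip y a = 0) (z1 : ip z a = 0)
    (y2 : ip y (k * a * k⁻¹) = 0) (z2 : ip z (k * a * k⁻¹) = 0) : z * (k * y * k⁻¹) ∈ Sc F V := by
  have hy' := S.nn hk hN hy
  have hz' := S.nn hk hN hz
  refine (S.fxc S.noI hy hz hy' hz' e ((ip_conj _ _ _).trans e) (mt (Sc_cj' k) n)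
    (S.f1' (S.comm_mem hk hy hz) (S.nn hk hN ha) (ip_mul_zero (ip_mul_zero
      (ip_T S.two hy'.2.1 ((ip_conj _ _ _).trans y1)) (ip_T S.two hz'.2.1 ((ip_conj _ _ _).trans z1)))
      ((ip_inv_left _ _).trans (ip_mul_zero (ip_T S.two hy.2.1 y2)
        (ip_T S.two hz.2.1 z2)))))).resolve_left (mt (S.f1 k hk y hy) hc)

theorem sq_not (hk : k ∈ K) (hN : k ∈ Nrm R) (hc : k ∉ RS R) (h2 : k * k ∈ RS R) (ha : NN R a) :
    ip a (k * a * k⁻¹) = 0 := by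
  by_contra e
  have ha' := S.nn hk hN ha
  refine hc (S.f1 k hk _ (S.nn_mul ha ha' (ip_one_of e)) ?_)
  have := S.conj_Sc h2 ha
  rw [show k * (a * (k * a * k⁻¹)) * k⁻¹ = k * a * k⁻¹ * (k * k * a * (k * k)⁻¹) by group,
    mul_assoc a, ← mul_assoc (k * a * k⁻¹), ha'.2.1, neg_one_mul, mul_neg, neg_mem_Sc]
  exact this

theorem sq_mem (hk : k ∈ K) (hN : k ∈ Nrm R) (hy : NN R y) (hz : NN R z)
    (h1 : z * (k * y * k⁻¹) ∈ Sc F V) (h2 : y * (k * z * k⁻¹) ∈ Sc F V) : k * k ∈ RS R :=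
  S.f1 _ (mul_mem hk hk) y hy (by
    rw [conj_mul]; exact Sc_trans (S.nn hk hN hz).2.1 h2 (Sc_cj k h1))

theorem fix_big (hn : 16 < finrank F V ^ 2) (hk : k ∈ K) (hN : k ∈ Nrm R) : k ∈ RS R := by
  by_contra hc
  obtain ⟨a, ha, -, -⟩ := S.exists_NN' (l := []) (by simp) (lt_trans (by simp) hn)
  have ha' := S.nn hk hN ha
  have hl : ∀ x ∈ [a, k * a * k⁻¹], x ∈ RS R := by simp [ha.RS, ha'.RS]
  obtain ⟨y, hy, y1, y2⟩ := S.exists_NN' hl (by simpa using hn)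
  have y3 := y1 a (by simp)
  have y4 := y1 (k * a * k⁻¹) (by simp)
  rcases ip_cases a (k * a * k⁻¹) with e | e
  · have h1 := S.fx hk hN hc ha hy ha y3 (fun h => y2 (Or.inr (Or.inl (Sc_swap h)))) y3 (ip_self _)
      y4 e
    have h2 := S.fx hk hN hc ha hy ha' y4 (fun h => y2 (Or.inl (Or.inr (Sc_swap h)))) y3
      ((ip_comm _ _).trans e) y4 (ip_self _)
    exact hc (S.f1 k hk a ha (Sc_trans (S.nn hk hN hy).2.1 h1 (Sc_swap h2)))
  have hl' : ∀ x ∈ [a, k * a * k⁻¹, y], x ∈ RS R := by simp [ha.RS, ha'.RS, hy.RS]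
  obtain ⟨x, hx, x1, x2⟩ := S.exists_comm hl' [y] (by simpa using hn)
  have x3 := x1 a (by simp)
  have x4 := x1 (k * a * k⁻¹) (by simp)
  generalize hb : k * a * k⁻¹ = b at *
  have i1 : ∀ {t}, Sp [y] t → ip a t = 0 := fun h => h.ip (by simp [ip_comm a, y3])
  have i2 : ∀ {t}, Sp [y] t → ip b t = 0 := fun h => h.ip (by simp [ip_comm b, y4])
  obtain ⟨z, hz, z1, z2⟩ := S.exists_NN hl' hx x1 (by
    rintro ((h | h) | h | h)
    · exact x2 h
    · have := i1 h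
      rw [S.ip_mul_right ha'.RS (le_RS hx) ha.RS, e, ip_comm, x3] at this
      exact absurd this (by decide)
    · have := i2 h
      rw [S.ip_mul_right ha.RS (le_RS hx) ha'.RS, ip_comm, e, ip_comm, x4] at this
      exact absurd this (by decide)
    · have := i2 h
      rw [S.ip_mul_right ha'.RS (mul_mem ha.RS (le_RS hx)) ha'.RS,
        S.ip_mul_right ha.RS (le_RS hx) ha'.RS, ip_self, ip_comm, e, ip_comm, x4] at this
      exact absurd this (by decide))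
  subst hb
  have z3 := z1 a (by simp)
  have z4 := z1 (k * a * k⁻¹) (by simp)
  have z5 := z1 y (by simp)
  have n : y * z ∉ Sc F V := fun h => z2 (Or.inl (Or.inl (Or.inr h)))
  have := S.sq_not hk hN hc (S.sq_mem hk hN hy hz
    (S.fx hk hN hc ha hy hz ((ip_comm _ _).trans z5) n y3 z3 y4 z4)
    (S.fx hk hN hc ha hz hy z5 (mt Sc_swap n) z3 y3 z4 y4)) ha
  rw [e] at this
  exact absurd this (by decide)

theorem f2 (hn : 4 < finrank F V ^ 2) (ha : NN R a) (hb : NN R b) (h : T a * T b ∈ K) :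
    a * b ∈ Sc F V := by
  obtain ⟨c, hc, c1, c2⟩ := S.exists_perp_nn hn ha hb
  have h1 := S.f1' h hc (ip_mul_zero (ip_T S.two ha.2.1 ((ip_comm _ _).trans c1))
    (ip_T S.two hb.2.1 ((ip_comm _ _).trans c2)))
  by_contra e
  obtain ⟨r, hr, r1, r2⟩ := S.exists_sep (l := [b]) (by simpa using hb.RS) ha.RS (by
    rintro (h | h)
    exacts [ha.2.2 h, e (Sc_swap h)])
  have := S.conj_mul_inv h1 (le_RS hr)
  rw [conj_mul, T_conj_comm S.two hb.2.1 ((ip_comm _ _).trans (r1 b (by simp))),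
    S.T_conj_one ha.RS ha.2.1 (le_RS hr) ((ip_comm _ _).trans r2), mul_inv_cancel_right] at this
  exact ha.2.2 this

theorem rot (hn : 4 < finrank F V ^ 2) (hk : k ∈ K) (hN : k ∈ Nrm R) (ha : NN R a)
    (e : ip a (k * a * k⁻¹) = 1) : a * (k * a * k⁻¹) * (k * k * a * (k * k)⁻¹) ∈ Sc F V := by
  have hb := S.nn hk hN ha
  have hc := S.nn hk hN hb
  have h1 := S.comm_mem hk ha hb
  rw [conj_mul]
  generalize k * a * k⁻¹ = b at *
  generalize k * b * k⁻¹ = c at *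
  refine S.f2 hn (S.nn_mul ha hb e) hc ?_
  have hd := S.nn_mul ha hb e
  have e1 : T (a * b) = T a * T b * (T a)⁻¹ := by
    rw [T_conj S.two hb.2.1, S.T_conj_one ha.RS ha.2.1 hb.RS e]
  have e2 : T (a * b) = (T b)⁻¹ * T a * T b := by
    have : T b * (a * b) * (T b)⁻¹ = a := by
      rw [S.T_conj_one hb.RS hb.2.1 hd.RS (by
        rw [S.ip_mul_right ha.RS hb.RS hb.RS, ip_comm, e, ip_self, add_zero]),
        S.anti ha.RS hb.RS e, mul_neg, ← mul_assoc, hb.2.1]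
      simp
    rw [← this, ← T_conj S.two hd.2.1, this]
    group
  have h2 : T (a * b) * T (a * b) ∈ K := by
    rw [T_sq S.two hd.2.1]; exact S.rs (mul_mem (Sc_le_RS (sc_mem _ _)) hd.RS)
  have := mul_mem (S.nrm _ (mul_mem (S.tt a b ha hb) (inv_mem (S.tt b a hb ha))) _ h1) h2
  nth_rw 2 [e2] at this
  rw [e1] at this ⊢
  convert this using 1
  group

theorem exists_pair (hn : 4 < finrank F V ^ 2) : ∃ y w, NN R y ∧ NN R w ∧ ip y w = 1 := by
  obtain ⟨a, ha, -, -⟩ := S.exists_NN' (l := []) (by simp) (lt_trans (by simp) hn)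
  obtain ⟨w, hw, w1, w2⟩ := S.exists_NN' (l := [a]) (by simpa using ha.RS) (by simpa using hn)
  obtain ⟨y, hy, -, -, e⟩ := S.exists_anti_nn' (l := []) (by simp) ha hw.RS (by simp)
    ((ip_comm _ _).trans (w1 a (by simp))) w2
  exact ⟨y, w, hy, hw, e⟩

theorem fix_four (hn : 4 < finrank F V ^ 2) (hM : MT R) (hk : k ∈ K) (hN : k ∈ Nrm R) :
    k ∈ RS R := by
  by_contra hc
  have n := fun a ha => mt (S.f1 k hk a ha) hc
  have sq : ∀ {a b}, NN R a → NN R b → ip a b = 0 → a * b * (a * b) = 1 := fun ha hb e => by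
    rw [S.sq_mul_comm e, ha.2.1, hb.2.1]; simp
  obtain ⟨b, c, hb, hc', e⟩ := S.exists_pair hn
  have hb' := S.nn hk hN hb
  by_cases h2 : k * k ∈ RS R
  · have hc'' := S.nn hk hN hc'
    have e1 : ip (k * b * k⁻¹) c = ip b (k * c * k⁻¹) := by
      have := ip_sc_left (S.conj_Sc h2 hb) (k * c * k⁻¹)
      rw [S.ip_mul_left hb.RS (mem_Nrm_apply (RS_le_Nrm h2) hb.RS) hc''.RS, conj_mul, ip_conj] at this
      rw [eq_neg_of_add_eq_zero_right this, ZMod.neg_eq_self_mod_two]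
    have := hM _ (mul_mem hb.1 hb'.1) _ (mul_mem hc'.1 hc''.1) (sq hb hb' (S.sq_not hk hN hc h2 hb))
      (sq hc' hc'' (S.sq_not hk hN hc h2 hc')) (by
        rw [S.ip_mul_left hb.RS hb'.RS (mul_mem hc'.RS hc''.RS), S.ip_mul_right hc'.RS hc''.RS hb.RS,
          S.ip_mul_right hc'.RS hc''.RS hb'.RS, ip_conj, e1, e]
        generalize ip b (k * c * k⁻¹) = t
        revert t; decide) (n b hb) (n c hc')
    refine n _ (S.nn_mul hb hc' e) ?_
    rw [show k * (b * c) * k⁻¹ = k * b * k⁻¹ * (k * c * k⁻¹) by group, mul_assoc b,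
      ← mul_assoc c]
    rw [mul_assoc b, ← mul_assoc _ c] at this
    rcases S.comm c hc'.1 _ hb'.1 with e | e <;> rw [e]
    exacts [this, by simpa [neg_mem_Sc] using this]
  have A : ∀ a, NN R a → ip a (k * a * k⁻¹) = 1 := fun a ha => ip_one_of fun e => h2
    (S.f1 _ (mul_mem hk hk) a ha (by
      rw [conj_mul]
      exact S.fx hk hN hc ha (S.nn hk hN ha) ha ((ip_comm _ _).trans e) (mt Sc_swap (n a ha))
        ((ip_comm _ _).trans e) (ip_self _) (ip_self _) e))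
  obtain ⟨d, hd, d1, d2⟩ := S.exists_perp_nn hn hb hb'
  have hd' := S.nn hk hN hd
  have d3 : ip (k * d * k⁻¹) (k * b * k⁻¹) = 0 := (ip_conj _ _ _).trans d1
  have d4 : ip (k * d * k⁻¹) b = 0 := by
    have := ip_sc_right (S.rot hn hk hN hb (A b hb)) (k * d * k⁻¹)
    rwa [conj_mul, S.ip_mul_right (mul_mem hb.RS hb'.RS) (S.nn hk hN hb').RS hd'.RS,
      S.ip_mul_right hb.RS hb'.RS hd'.RS, d3, ip_conj, d2, add_zero, add_zero] at this
  have a1 := A b hb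
  have a2 := A d hd
  generalize k * b * k⁻¹ = b' at *
  generalize k * d * k⁻¹ = d' at *
  rw [ip_comm] at d1 d2 d3 d4
  have x := mul_mem hb.RS hd.RS
  have y := mul_mem hb'.RS hd'.RS
  have := ip_sc_right (hM _ (mul_mem hb.1 hd.1) _ (mul_mem hb'.1 hd'.1) (sq hb hd d1)
    (sq hb' hd' d3) (by
      rw [S.ip_mul_left hb.RS hd.RS y, S.ip_mul_right hb'.RS hd'.RS hb.RS,
        S.ip_mul_right hb'.RS hd'.RS hd.RS, a1, a2, d4, ip_comm, d2]; decide)
    (not_Sc_of_ip (y := b') (by rw [S.ip_mul_left hb.RS hd.RS hb'.RS, a1, ip_comm, d2, add_zero]))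
    (not_Sc_of_ip' (x := b) (by rw [S.ip_mul_right hb'.RS hd'.RS hb.RS, a1, d4, add_zero]))) b
  rw [S.ip_mul_right x y hb.RS, S.ip_mul_right hb.RS hd.RS hb.RS,
    S.ip_mul_right hb'.RS hd'.RS hb.RS, a1, d1, d4, ip_self] at this
  exact absurd this (by decide)

theorem le_RS (hn : 4 < finrank F V ^ 2) (fix : ∀ k ∈ K, k ∈ Nrm R → k ∈ RS R) : K ≤ RS R := by
  have := finite_GV (F := F) (V := V)
  have U : ∀ y, NN R y → ∀ h ∈ K, h * y * h⁻¹ ∈ RS R → h ∈ RS R := fun y hy h hh e => by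
    refine fix h hh (mem_Nrm fun x hx => S.f1 _ (S.nrm h (S.leM hh) x (S.rs (C6.le_RS hx))) _
      (hy.conj S.bk (S.leM hh) e) ?_)
    convert Sc_cj h (S.conj_Sc (C6.le_RS hx) hy) using 1
    group
  have U' : ∀ y, NN R y → ∀ h ∈ K.map (QuotientGroup.mk' (Sc F V)),
      h * QuotientGroup.mk' (Sc F V) y * h⁻¹ ∈ (RS R).map (QuotientGroup.mk' (Sc F V)) →
      h ∈ (RS R).map (QuotientGroup.mk' (Sc F V)) := by
    rintro y hy _ ⟨h, hh, rfl⟩ e
    exact ⟨h, U y hy h hh ((mem_map_pi le_sup_right).1 e), rfl⟩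
  obtain ⟨y, w, hy, hw, e⟩ := S.exists_pair hn
  have cj : ∀ n ∈ (RS R).map (QuotientGroup.mk' (Sc F V)), ∀ x ∈ RS R,
      n * QuotientGroup.mk' (Sc F V) x * n⁻¹ = QuotientGroup.mk' (Sc F V) x := by
    rintro _ ⟨n, hn, rfl⟩ x hx
    rw [← mul_inv_eq_one]
    exact pi_eq_one.2 (S.conj_mul_inv hn hx)
  have sq : ∀ y ∈ RS R, QuotientGroup.mk' (Sc F V) y * QuotientGroup.mk' (Sc F V) y = 1 :=
    fun y hy => pi_eq_one.2 (S.sqS hy)
  intro g hg
  obtain ⟨z, z1, ⟨n, -, n1, z2⟩, n', -, n2, z3⟩ := inv_trick (H := K.map (QuotientGroup.mk' (Sc F V)))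
    (N := (RS R).map (QuotientGroup.mk' (Sc F V))) (g := QuotientGroup.mk' (Sc F V) g)
    ⟨y, S.rs hy.RS, rfl⟩ ⟨w, S.rs hw.RS, rfl⟩ ⟨g, hg, rfl⟩ (sq y hy.RS) (sq w hw.RS) ⟨y, hy.RS, rfl⟩
    ⟨w, hw.RS, rfl⟩ (U' y hy) (U' w hw) (fun n _ hn e1 => by
      rw [cj n hn y hy.RS] at e1
      have := ip_sc_left (QuotientGroup.eq.1 e1) w
      rw [S.ip_mul_left (inv_mem hy.RS) hw.RS hw.RS, ip_inv_left, e, ip_self] at this
      exact absurd this (by decide))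
  rw [cj n n1 y hy.RS, cj n n1 w hw.RS] at z2
  rw [cj n' n2 y hy.RS, cj n' n2 w hw.RS] at z3
  have z4 : z = QuotientGroup.mk' (Sc F V) (w * y) := by
    rw [map_mul, ← z2.resolve_left (by simpa using z1), mul_assoc, sq y hy.RS, mul_one]
  have z5 : g⁻¹ * (w * y) * g⁻¹⁻¹ * w ∈ RS R := (mem_map_pi le_sup_right).1 (by
    rw [inv_inv, map_mul, map_mul, map_mul, map_inv, ← z4]
    rcases z3 with e | e <;> rw [e]
    exacts [⟨y, hy.RS, rfl⟩, ⟨w, hw.RS, rfl⟩])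
  exact inv_mem_iff.1 (U _ (S.nn_mul hw hy ((ip_comm _ _).trans e)) _ (inv_mem hg)
    (((RS R).mul_mem_cancel_right hw.RS).1 z5))

end KH

namespace CM

variable (P : CM R M) (hT : ∀ a, NN R a → TI R M a) (hn : 16 < finrank F V ^ 2) (I : Iv R w)
  (hw : w ∈ R)
include P hT hn I hw

theorem kh (hB : Bk (rs w R) (rs w M)) (hs : NoI (rs w R)) : KH (rs w R) (kr w M) (rs w M) := by
  refine ⟨P.rs_cm I, hB, hs, kr_le, fun _ hg _ hk => kr_conj hg hk, P.RS_le_kr I hn hw, ?_⟩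
  intro k' hk' a' ha' e
  obtain ⟨k, hk, ⟨c, hc, k1⟩, k2, o⟩ := mem_kr.1 hk'
  obtain ⟨a, ha, a1, a2, o'⟩ := P.nn_lift I ha'
  have k3 : ∀ x, ip x w = 0 → ∀ v ∈ Vp (-w), (k * x * k⁻¹).1 v = x.1 v := fun x hx v hv => by
    have := Vp_map_neg ((ip_inv_left _ _).trans k2) hv
    rw [mul_ap, mul_ap, k1 _ (Vp_map_neg hx this), ← map_smul, ← k1 _ this, val_apply_inv]
  have hN : k ∈ Nrm R := hT a ha k hk (by
    rcases (P.rs_pa I).eq_or_neg ha'.RS (ha'.2.1.trans (conj_sq_neg ha'.2.1 k').symm) e with e | e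
    · rw [Vp_ext P.two I.sq (fun v hv => (o.conj o').eq (by rwa [e]) hv) (k3 a a1)]
      exact ha.RS
    · exact Vp_ext (h := -(a * w)) P.two I.sq (fun v hv => by
        rw [(o.conj o').eq (by rw [e]; exact o'.neg) hv, neg_ap, neg_ap, mul_ap, mem_Vp.1 hv])
        (fun v hv => by rw [k3 a a1 v hv, neg_ap, mul_ap, mem_Vp_neg.1 hv, map_neg, neg_neg]) ▸
        neg_mem_RS (mul_mem ha.RS I.mem))
  refine (P.rs_pa I).mem_RS_of_cent fun x' hx' => ?_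
  obtain ⟨x, hx, x1, o''⟩ := mem_rs.1 hx'
  refine ((o.conj o'').mul o''.inv).mem_Sc.2 (P.sp_w' I (mul_mem (mem_Nrm_apply hN (le_RS hx))
    (inv_mem (le_RS hx))) ⟨1, one_ne_zero, fun v hv => ?_⟩).scOn
  rw [mul_ap, k3 x x1 _ (Vp_map_neg ((ip_inv_left _ _).trans x1) hv), val_apply_inv, one_smul]

omit hT hn hw in
theorem lift_rel (hg : ip g w = 0) (hx : x ∈ RS R) (hy : y ∈ RS R) (ha : a ∈ RS R)
    (hb : b ∈ RS R) (x1 : ip x w = 0) (y1 : ip y w = 0)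
    (e1 : ∀ v ∈ Vp w, (g * x * g⁻¹).1 v = a.1 v) (e2 : ∀ v ∈ Vp w, (g * y * g⁻¹).1 v = b.1 v) :
    ip a b = ip x y ∧ (Sp [w] (a * b) ↔ Sp [w] (x * y)) := by
  obtain ⟨g', o⟩ := ex_on_Vp hg
  obtain ⟨x', o1⟩ := ex_on_Vp x1
  obtain ⟨y', o2⟩ := ex_on_Vp y1
  have o3 := (o.conj o1).congr e1
  have o4 := (o.conj o2).congr e2
  refine ⟨by rw [← P.on_ip I ha hb o3 o4, ip_conj, P.on_ip I hx hy o1 o2], ?_⟩
  rw [← P.on_mem_Sc I (mul_mem ha hb) (o3.mul o4), ← P.on_mem_Sc I (mul_mem hx hy) (o1.mul o2)]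
  exact ⟨Sc_cj' g', Sc_cj g'⟩

theorem cent_le (h : ∀ w ∈ R, Iv R w → Bk (rs w R) (rs w M) ∧ NoI (rs w R) ∧
    (16 < finrank F (Vp w) ^ 2 ∨ MT (rs w R))) (hg : g ∈ M) (h1 : ip g w = 0) : g ∈ Nrm R := by
  have A : ∀ w ∈ R, Iv R w → kr w M ≤ RS (rs w R) := fun w hw I => by
    obtain ⟨b1, b2, b3⟩ := h w hw I
    have S := P.kh hT hn I hw b1 b2
    have d := P.finrank_Vp I
    have d' : 4 < finrank F (Vp w) ^ 2 := by rw [← d] at hn; nlinarith
    exact S.le_RS d' fun k hk hN => b3.elim (fun e => S.fix_big e hk hN) fun e =>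
      S.fix_four d' e hk hN
  have N : ∀ w ∈ R, Iv R w → rs w M ≤ Nrm (rs w R) := fun w hw I g hg => mem_Nrm fun x hx =>
    A w hw I (kr_conj hg (P.RS_le_kr I hn hw (le_RS hx)))
  have hw' := P.neg_mem hw
  have L := fun {x} => P.lift_nn (x := x) I (h w hw I).1 (N w hw I) hg h1
  have L' : ∀ {x}, NN R x → ip x w = 0 → ¬ Sp [w] x → ∃ a, NN R a ∧ ip a w = 0 ∧ ¬ Sp [w] a ∧
      ∀ v ∈ Vp (-w), (g * x * g⁻¹).1 v = a.1 v := fun hx x1 x2 => by
    simpa only [ip_neg_right, sp_neg_one] using P.lift_nn I.neg (h _ hw' I.neg).1 (N _ hw' I.neg) hg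
      ((ip_neg_right _ _).trans h1) hx ((ip_neg_right _ _).trans x1) (mt sp_neg_one.1 x2)
  have R' : ∀ {x y a b}, NN R x → NN R y → NN R a → NN R b → ip x w = 0 → ip y w = 0 →
      (∀ v ∈ Vp (-w), (g * x * g⁻¹).1 v = a.1 v) → (∀ v ∈ Vp (-w), (g * y * g⁻¹).1 v = b.1 v) →
      ip a b = ip x y ∧ (Sp [w] (a * b) ↔ Sp [w] (x * y)) := fun hx hy ha hb x1 y1 e1 e2 => by
    simpa only [sp_neg_one] using P.lift_rel I.neg ((ip_neg_right _ _).trans h1) hx.RS hy.RS ha.RS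
      hb.RS ((ip_neg_right _ _).trans x1) ((ip_neg_right _ _).trans y1) e1 e2
  obtain ⟨x, hx, x1, x2⟩ := P.exists_NN' (l := [w]) (by simpa using I.mem)
    (lt_trans (by simp) hn)
  have x3 := x1 w (by simp)
  obtain ⟨a, ha, a1, a2, a3⟩ := L hx x3 x2
  obtain ⟨b, hb, b1, b2, b3⟩ := L' hx x3 x2
  have key : ∀ {c d}, NN R c → ip c w = 0 → ip c x = 0 → ¬ Sp [x, w] c → NN R d → ip d w = 0 →
      ¬ Sp [w] d → (∀ v ∈ Vp (-w), (g * c * g⁻¹).1 v = d.1 v) →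
      Sp [w] (b * a) ∨ Sp [w] (d * a) := fun {c d} hc c1 c2 c3 hd d1 d2 d3 => by
    obtain ⟨e, he, e1, e2, e3⟩ := L hc c1 fun h => c3 (Or.inl h)
    obtain ⟨f1, f2⟩ := P.lift_rel I h1 hx.RS hc.RS ha.RS he.RS x3 c1 a3 e3
    obtain ⟨f3, -⟩ := R' hx hc hb hd x3 c1 b3 d3
    obtain ⟨a', oa⟩ := ex_on_Vp a1
    obtain ⟨b', ob⟩ := ex_on_Vp b1
    obtain ⟨d', od⟩ := ex_on_Vp d1
    obtain ⟨e', oe⟩ := ex_on_Vp e1
    have t : ∀ {W : Submodule F V} {x a : GV F V}, x * x = -1 → a * a = -1 →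
        (∀ v ∈ W, (g * x * g⁻¹).1 v = a.1 v) → ∀ v ∈ W, (g * T x * g⁻¹).1 v = (T a).1 v :=
      fun hx ha e v hv => by
        rw [T_conj P.two hx, T_ap P.two (conj_sq_neg hx g), T_ap P.two ha, e v hv]
    have tw : ∀ {a}, NN R a → ip a w = 0 → ip (T a) w = 0 := fun ha => ip_T P.two ha.2.1
    have i1 : ip (T b * T d)⁻¹ w = 0 := (ip_inv_left _ _).trans (ip_mul_zero (tw hb b1) (tw hd d1))
    have eq : g * (T x * T c) * g⁻¹ = g * T x * g⁻¹ * (g * T c * g⁻¹) := by group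
    have := (P.rs_pa I).fxc (h w hw I).2.1 (P.nn_res I hb b1 b2 ob) (P.nn_res I hd d1 d2 od)
      (P.nn_res I ha a1 a2 oa) (P.nn_res I he e1 e2 oe)
      (ob.ip od (by rw [f3, ip_comm, c2])) (oa.ip oe (by rw [f1, ip_comm, c2]))
      (fun h => c3 (Or.inr (f2.1 ((P.on_mem_Sc I (mul_mem ha.RS he.RS) (oa.mul oe)).1 h))))
      (A w hw I (mem_kr.2 ⟨g * (T x * T c) * g⁻¹ * (T b * T d)⁻¹,
        mul_mem (mul_mem (mul_mem hg (P.tt x c hx hc)) (inv_mem hg)) (inv_mem (P.tt b d hb hd)),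
        ⟨1, one_ne_zero, fun v hv => ?_⟩, ip_mul_zero ((ip_conj_fix h1 _).trans
          (ip_mul_zero (tw hx x3) (tw hc c1))) i1,
        (((oa.T P.two ha.2.1).mul (oe.T P.two he.2.1)).mul ((ob.T P.two hb.2.1).mul
          (od.T P.two hd.2.1)).inv).congr fun v hv => ?_⟩))
    · exact this.imp (P.on_mem_Sc I (mul_mem hb.RS ha.RS) (ob.mul oa)).1
        (P.on_mem_Sc I (mul_mem hd.RS ha.RS) (od.mul oa)).1
    · have := Vp_map_neg i1 hv
      rw [mul_ap, eq, mul_ap, t hc.2.1 hd.2.1 d3 _ this, t hx.2.1 hb.2.1 b3 _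
        (Vp_map_neg (tw hd d1) this), ← mul_ap (T b), val_apply_inv, one_smul]
    · have := Vp_map i1 hv
      rw [mul_ap, mul_ap _ (T b * T d)⁻¹, eq, mul_ap (g * T x * g⁻¹), t hc.2.1 he.2.1 e3 _ this,
        t hx.2.1 ha.2.1 a3 _ (Vp_map (tw he e1) this), mul_ap]
  have hl : ∀ t ∈ [w], t ∈ RS R := by simpa using I.mem
  obtain ⟨c, hc, c1, c2⟩ := P.exists_NN' (l := [x, w]) (by simp [I.mem, hx.RS]) (by simpa using hn)
  have c3 := c1 x (by simp)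
  have c4 := c1 w (by simp)
  obtain ⟨c', hc', c5, c6, c7⟩ := P.exists_anti_nn' hl hx hc.RS x1 ((ip_comm _ _).trans c3) c2
  have c8 := c6 w (by simp)
  have c9 : ¬ Sp [x, w] c' := fun h => by
    rw [ip_comm, h.ip (by simp [c3, c4])] at c7; exact absurd c7 (by decide)
  obtain ⟨d, hd, d1, d2, d3⟩ := L' hc c4 fun h => c2 (Or.inl h)
  obtain ⟨d', hd', d4, d5, d6⟩ := L' hc' c8 fun h => c9 (Or.inl h)
  have e : Sp [w] (b * a) := by
    by_contra e
    have e1 := (key hc c4 c3 c2 hd d1 d2 d3).resolve_left e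
    have e2 := (key hc' c8 c5 c9 hd' d4 d5 d6).resolve_left e
    have e3 := (R' hc' hc hd' hd c8 c4 d6 d3).1
    have e4 := e1.ip (x := d') (by simpa using d4)
    have e5 := e2.ip (x := d') (by simpa using d4)
    rw [P.ip_mul_right hd'.RS ha.RS hd'.RS, ip_self, zero_add] at e5
    rw [P.ip_mul_right hd.RS ha.RS hd'.RS, e5, e3, c7] at e4
    exact absurd e4 (by decide)
  exact hT x hx g hg (P.glue I hb ha b1 e a3 b3)


end CM

theorem CM.real_of_cn (P : CM R M) (hB : Bk R M) (hs : NoI R) (hn : 16 < finrank F V ^ 2)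
    (h : ∀ w ∈ R, Iv R w → Bk (rs w R) (rs w M) ∧ NoI (rs w R) ∧
      (16 < finrank F (Vp w) ^ 2 ∨ MT (rs w R))) (hc : ∀ a, NN R a → CN R M a) : M ≤ Nrm R := by
  have h4 : 4 < finrank F V ^ 2 := by omega
  have hT := fun a => P.ti_of_cn (a := a) hB (Or.inr hn) h4 hc
  obtain ⟨a, ha, -, -⟩ := P.exists_NN' (l := []) (by simp) (lt_trans (by simp) hn)
  obtain ⟨c, hc, c1, c2⟩ := P.exists_NN' (l := [a]) (by simpa using ha.RS) (by simpa using h4)
  refine P.le_Nrm_real hB (Or.inr hn) h4 (fun x hx hx' => (P.sq x hx).elim (fun e => ?_)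
    fun e => hT x ⟨hx, e, hx'⟩) hs (mul_mem ha.1 hc.1) (fun e => c2 (Or.inr e)) ?_ ha
  · exact P.ti_of_cent hB (Or.inr hn) h4 hx hx' fun g =>
      P.cent_le hT hn ⟨le_RS hx, e, hx'⟩ hx h
  · rw [P.sq_mul_comm ((ip_comm _ _).trans (c1 a (by simp))), ha.2.1, hc.2.1]; simp

end Cfsg.Agent.C6
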