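import Cfsg.Agent.C6.RealA
import Cfsg.Agent.H27.OBasic

/-! The real types: Eichler elements. -/

set_option autoImplicit false
set_option linter.unusedSectionVars false
set_option linter.unusedVariables false
set_option linter.unusedSimpArgs false

namespace Cfsg.Agent.C6

open Module Cfsg.Agent.H27 Cfsg.Agent.H84.CU

universe u v

variable {F : Type u} {V : Type v} [Field F] [AddCommGroup V] [Module F V]
variable [Finite F] [FiniteDimensional F V] {ε : F} {B : V →ₗ[F] V →ₗ[F] F}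
variable {R K M : Subgroup (GV F V)} {a b c d g h j k r s t u w x y z : GV F V} {p q : V}

/-- An Eichler element of `M`. -/
def EY (ε : F) (B : V →ₗ[F] V →ₗ[F] F) (M : Subgroup (GV F V)) (p q : V) : Prop :=
  B p p = 0 ∧ B p q = 0 ∧ ∃ t : F, ∃ g ∈ M, Isom B g ∧
    ∀ z, g.1 z = z + B p z • q - (ε * B q z + t * B p z) • p

/-- An Eichler element in good position. -/
def Eta (ε : F) (B : V →ₗ[F] V →ₗ[F] F) (R M : Subgroup (GV F V)) : Prop :=
  ∃ w ∈ R, Iv R w ∧ ∃ p ∈ Vp w, ∃ q ∈ Vp (-w), p ≠ 0 ∧ q ≠ 0 ∧ EY ε B M p q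

theorem EY.conj (h : EY ε B M p q) (hk : k ∈ M) (i : Isom B k) : EY ε B M (k.1 p) (k.1 q) := by
  obtain ⟨h1, h2, t, g, hg, j, e⟩ := h
  refine ⟨by rw [i, h1], by rw [i, h2], t, k * g * k⁻¹, mul_mem (mul_mem hk hg) (inv_mem hk),
    (i.mul j).mul i.inv, fun z => ?_⟩
  rw [mul_ap, mul_ap, e, i.adj, i.adj]
  simp only [map_add, map_sub, map_smul, val_apply_inv]

namespace RT

variable (U : RT ε B R M)
include U

theorem eps_sq : ε * ε = 1 := by rcases U.eps with rfl | rfl <;> simp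

theorem zero_symm (h : B p q = 0) : B q p = 0 := by rw [U.sym, h, mul_zero]

theorem noI (P : Pa R) : NoI R := fun s hs h => by
  have := P.nt
  rcases isom_Sc U.nd h (U.iso s hs) with rfl | rfl <;> simp

theorem ey_add {q' : V} (h : EY ε B M p q) (h' : EY ε B M p q') : EY ε B M p (q + q') := by
  obtain ⟨h1, h2, t, g, hg, j, e⟩ := h
  obtain ⟨-, h3, t', g', hg', j', e'⟩ := h'
  refine ⟨h1, by simp [h2, h3], t + t' + ε * B q q', g * g', mul_mem hg hg', j.mul j', fun z => ?_⟩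
  rw [mul_ap, e', e]
  simp only [map_add, map_sub, map_smul, h1, h3, U.zero_symm h2, smul_eq_mul, LinearMap.add_apply]
  module

/-- The vectors with an Eichler element. -/
def YY (hp : B p p = 0) : Submodule F V where
  carrier := {q | EY ε B M p q}
  add_mem' := U.ey_add
  zero_mem' := ⟨hp, map_zero _, 0, 1, one_mem _, Isom.one, fun z => by simp⟩
  smul_mem' c q hq := by
    obtain ⟨n, rfl⟩ := U.pf c
    induction n with
    | zero => exact ⟨hp, by simp, 0, 1, one_mem _, Isom.one, fun z => by simp⟩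
    | succ n ih => rw [Nat.cast_succ, add_smul, one_smul]; exact U.ey_add ih hq

theorem iso_eig (h2 : (2 : F) ≠ 0) (hu : Isom B u) {i : F} (hi : i * i = -1) (hp : u.1 p = i • p)
    (hq : u.1 q = i • q) : B p q = 0 := by
  have := hu p q
  simp only [hp, hq, map_smul, LinearMap.smul_apply, smul_eq_mul, ← mul_assoc, hi] at this
  exact (mul_eq_zero.1 (by linear_combination -this : 2 * B p q = 0)).resolve_left h2

end RT

namespace CM

variable (P : CM R M) (U : RT ε B R M) (hn : 16 < finrank F V ^ 2)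
include P U hn

theorem ctrl_iso (I : Iv R w) (hw : w ∈ R) (hr : r ∈ R) (h1 : ip r w = 0) :
    ∃ k ∈ M, Isom B k ∧ (∀ v ∈ Vp w, k.1 v = v) ∧ ∀ v ∈ Vp (-w), k.1 v = r.1 v := by
  obtain ⟨k, hk, k1, k2⟩ := P.ctrl I.neg hn (P.neg_mem hw) hr ((ip_neg_right _ _).trans h1) (by
    rw [sp_neg_one]
    refine or_iff_not_imp_right.2 fun h => (not_not.1 h).elim (U.noI P.toPa r hr) fun e => ?_
    have := U.noI P.toPa _ (mul_mem hw hr) e
    rwa [P.sq_mul_comm ((ip_comm _ _).trans h1), I.sq, one_mul] at this)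
  rw [neg_neg] at k2
  exact ⟨k, hk, isom_of_parts P.two I.sq (U.iso w hw) Isom.one (U.iso r hr)
    (ip_sc_left (one_mem _) _) h1 k2 k1, k2, k1⟩

theorem eta_fin (h : Eta ε B R M) : ∃ p, p ≠ 0 ∧ B p p = 0 ∧ (∀ q, B p q = 0 → EY ε B M p q) ∧
    ∃ q q', B p q = 0 ∧ B p q' = 0 ∧ B q q' ≠ 0 := by
  obtain ⟨w, hw, I, p, hp, q, hq, p0, q0, h⟩ := h
  have iw := U.iso w hw
  have A : ∀ v ∈ Vp (-w), v ∈ U.YY h.1 := fun v hv => by
    have := (P.rs_pa I.neg).eq_top (W := (U.YY h.1).comap (Vp (-w)).subtype) (v := ⟨q, hq⟩)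
      (fun e => q0 (congrArg Subtype.val e)) fun y hy => by
        obtain ⟨r, hr, r1, o⟩ := mem_rs.1 hy
        obtain ⟨k, hk, i, k1, k2⟩ := P.ctrl_iso U hn I hw hr ((ip_neg_right _ _).symm.trans r1)
        have := h.conj hk i
        rwa [k1 p hp, k2 q hq, ← o.ap hq] at this
    exact (this ▸ Submodule.mem_top : (⟨v, hv⟩ : Vp (-w)) ∈ (U.YY h.1).comap (Vp (-w)).subtype)
  have nd : ∀ v ∈ Vp (-w), v ≠ 0 → ∃ y ∈ Vp (-w), B v y ≠ 0 := fun v hv v0 => by
    by_contra e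
    push Not at e
    exact v0 (nd_Vp P.two I.neg.sq iw.neg U.nd hv e)
  obtain ⟨q', q1, q2⟩ := nd q hq q0
  refine ⟨p, p0, h.1, fun y hy => ?_, q, q', h.2.1, iw.orth P.two hp q1, q2⟩
  obtain ⟨x, hx, x1⟩ := P.exists_anti I.ns
  have x2 := P.anti (le_RS hx) I.mem x1
  have x3 := P.anti (inv_mem (le_RS hx)) I.mem ((ip_inv_left _ _).trans x1)
  obtain ⟨v, hv, v', hv', rfl⟩ := Vp_dec P.two I.sq y
  refine (U.YY h.1).add_mem ?_ (A v' hv')
  rw [map_add, iw.orth P.two hp hv', add_zero] at hy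
  have h1 := EY.conj (A _ (Vp_anti x3 hv)) (P.le hx) (U.iso x hx)
  have h2 := Vp_anti x2 hp
  rw [val_apply_inv] at h1
  obtain ⟨b, hb, b1⟩ := nd _ h2 (ap_ne x p0)
  generalize x.1 p = p' at *
  obtain ⟨-, -, t, g, hg, i, e⟩ := h1
  have h3 := EY.conj (A b hb) hg i
  rw [e p, e b, iw.orth' P.two h2 hp, U.zero_symm hy] at h3
  simp only [zero_smul, mul_zero, add_zero, sub_zero] at h3
  have := (U.YY h.1).add_mem ((U.YY h.1).sub_mem h3 (A b hb))
    ((U.YY h.1).smul_mem (ε * B v b + t * B p' b) (A _ h2))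
  rwa [show ∀ c, b + B p' b • v - c - b + c = B p' b • v by intros; abel,
    (U.YY h.1).smul_mem_iff b1] at this

theorem split (h8 : 8 ≤ finrank F V) (hu : NN R u) {i : F} (hi : i * i = -1) : CN R M u ∨ Eta ε B R M := by
  have i0 : -i ≠ 0 := fun e => by simp [neg_eq_zero.1 e] at hi
  obtain ⟨w, hw⟩ : ∃ w, w = C6.sc V (-i) i0 * u := ⟨_, rfl⟩
  have ip1 : ∀ x, ip x w = ip x u := fun x => by rw [hw, ip_smul_right (sc_mem _ _)]
  have wv : ∀ v, w.1 v = -i • u.1 v := fun v => by rw [hw]; rfl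
  have I : Iv R w := ⟨hw ▸ mul_mem (Sc_le_RS (sc_mem _ _)) hu.RS, GV_ext fun v => by
    rw [mul_ap, wv, wv, map_smul, sq_ap hu.2.1, smul_smul, one_ap, neg_mul_neg, hi]; simp,
    by rw [hw, (Sc F V).mul_mem_cancel_left (sc_mem _ _)]; exact hu.2.2⟩
  have sp : Sp [w] u := Or.inr (by
    rw [hw, mul_assoc, hu.2.1]; exact mul_mem (sc_mem _ _) neg_one_mem_Sc)
  have e1 : ∀ v ∈ Vp w, u.1 v = i • v := fun v hv => by
    conv_rhs => rw [← mem_Vp.1 hv, wv, smul_smul, mul_neg, hi, neg_neg, one_smul]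
  have e2 : ∀ v ∈ Vp (-w), u.1 v = -i • v := fun v hv => by
    conv_rhs => rw [neg_smul, ← smul_neg, ← mem_Vp_neg.1 hv, wv, smul_smul, mul_neg, hi, neg_neg,
      one_smul]
  have iu := U.iso u hu.1
  have t2 : ∀ p ∈ Vp (-w), ∀ q ∈ Vp (-w), B p q = 0 := fun p hp q hq =>
    U.iso_eig P.two iu (by rwa [neg_mul_neg]) (e2 p hp) (e2 q hq)
  have ext : ∀ p ∈ Vp (-w), ∀ q ∈ Vp (-w), (∀ y ∈ Vp w, B p y = B q y) → p = q :=
    fun p hp q hq e => sub_eq_zero.1 (U.nd _ fun y => by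
      obtain ⟨v, hv, v', hv', rfl⟩ := Vp_dec P.two I.sq y
      simp [t2 p hp v' hv', t2 q hq v' hv', e v hv])
  have hI := P.hasI_rs I hu.1 hu.2.1 sp
  have d := P.finrank_Vp I
  refine ((P.rs_cm I).main_l hI (by omega) (fun h3 => ?_) U.pf).imp
    (fun h g hg g1 x hx x1 => ?_) fun h => ?_
  · have := P.two
    rcases (U.pf i).cube h3 with rfl | rfl | rfl
    · simp at hi
    all_goals exact this (by linear_combination hi)
  · rw [← ip1] at g1 x1
    obtain ⟨g', o⟩ := ex_on_Vp g1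
    obtain ⟨x', o'⟩ := ex_on_Vp x1
    have g2 := mem_rs.2 ⟨g, hg, g1, o⟩
    have x2 := mem_rs.2 ⟨x, hx, x1, o'⟩
    obtain ⟨r, hr, r1, r2⟩ := mem_rs.1 ((P.rs_pa I).bk_of_hasI hI _ g' g2 x' x2
      (mem_Nrm_apply (h g2) (le_RS x2)))
    have r3 := fun v => (o.conj o').eq r2 (v := v)
    have i1 := U.si.conj hg (U.iso x hx)
    have i2 := (ip_conj_fix g1 x).trans x1
    generalize g * x * g⁻¹ = y at *
    rw [Vp_ext P.two I.sq r3 fun v hv => ext _ (Vp_map_neg i2 hv) _ (Vp_map_neg r1 hv) fun z hz => ?_]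
    · exact le_RS hr
    have := Vp_map ((ip_inv_left _ _).trans r1) hz
    rw [← val_apply_inv r z, U.iso r hr, ← r3 _ this, i1]
  obtain ⟨c, hc, c1, c2⟩ := P.exists_NN' (l := [u]) (by simpa using hu.RS) (lt_trans (by simp) hn)
  have c3 := c1 u (by simp)
  have I' : Iv R (u * c) := ⟨mul_mem hu.RS hc.RS, by
    rw [P.sq_mul_comm ((ip_comm _ _).trans c3), hu.2.1, hc.2.1]; simp, fun e => c2 (Or.inr e)⟩
  have w1 : ip (u * c) w = 0 := (ip1 _).trans (ip_mul_zero (ip_self u) c3)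
  have w2 : ¬ Sp [w] (u * c) := fun e => c2 (by
    have hl : ∀ a ∈ [u], a ∈ RS R := by simpa using hu.RS
    refine P.sp_of_mul_left hl (P.sp_of_mem hl (by simp)) (P.sp_le hl (fun a ha => ?_) e)
    rw [List.mem_singleton.1 ha, hw]
    exact (P.sp_of_mem hl (by simp)).smul (sc_mem _ _))
  obtain ⟨p, p0, p1, p2⟩ := P.exists_joint I I' w1 w2
  obtain ⟨q, q0, q1, q2⟩ := P.exists_joint I.neg I'.neg (by rwa [ip_neg_left, ip_neg_right])
    (by rwa [sp_neg_one, sp_neg])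
  have hw' := mul_mem hu.1 hc.1
  have pq := (U.iso _ hw').orth P.two p2 q2
  have qp := U.zero_symm pq
  obtain ⟨g', hg', e⟩ := t1_ME.1 (h ⟨p, p1⟩ ((-ε • B q) ∘ₗ (Vp w).subtype) (by simp [qp]))
  obtain ⟨g, hg, g1, o⟩ := mem_rs.1 hg'
  have e3 : ∀ v ∈ Vp w, (g ^ ex F).1 v = v + ((-ε • B q).smulRight p) v := fun v =>
    pow_ex_unip one_ne_zero (fun x _ => (Vp w).smul_mem _ p1) (fun x _ => by simp [qp])
      fun x hx => by rw [← o.ap hx, e]; simp
  have i1 := U.si.pow_ex hg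
  have i2 : ip (g ^ ex F) w = 0 := ip_eq_zero.2 (Commute.pow_left (ip_eq_zero.1 g1) _)
  refine ⟨_, hw', I', p, p2, q, q2, p0, q0, U.iso_eig P.two iu hi (e1 p p1) (e1 p p1), pq, 0,
    g ^ ex F, pow_mem hg _, i1, fun z => ?_⟩
  generalize g ^ ex F = k at *
  obtain ⟨v, hv, v', hv', rfl⟩ := Vp_dec P.two I.sq z
  have e4 : k.1 v' = v' + B p v' • q := ext _ (Vp_map_neg i2 hv') _
    ((Vp _).add_mem hv' ((Vp _).smul_mem _ q1)) fun y hy => by
      rw [i1.adj, inv_ap (v := y + (ε * B q y) • p) (by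
        rw [e3 _ ((Vp w).add_mem hy ((Vp w).smul_mem _ p1))]; simp [qp])]
      simp only [map_add, map_smul, smul_eq_mul, LinearMap.add_apply, LinearMap.smul_apply,
        U.sym p v']
      linear_combination B q y * B p v' * U.eps_sq
  rw [map_add, e3 v hv, e4]
  simp only [map_add, U.iso_eig P.two iu hi (e1 p p1) (e1 v hv), t2 q q1 v' hv',
    LinearMap.smulRight_apply, LinearMap.smul_apply, smul_eq_mul]
  module

end CM

theorem CM.fin_sp (P : CM R M) (U : RT (-1) B R M) (hn : 16 < finrank F V ^ 2)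
    (h : Eta (-1) B R M) : GG B ≤ ME M := by
  obtain ⟨p, p0, p1, h1, q, q', q1, q2, q3⟩ := P.eta_fin U hn h
  have S := skH_alt (B := B) (fun x => (mul_eq_zero.1
    (by linear_combination U.sym x x : 2 * B x x = 0)).resolve_left P.two) U.nd
  have es : ∀ y, B p y = 0 → ∃ t, ES B (ME M ⊓ Iso B) p y t := fun y hy => by
    obtain ⟨-, -, t, g, hg, i, e⟩ := h1 y hy
    exact ⟨-t, toE F V g, ⟨mem_ME.2 hg, i⟩, fun z => by rw [toE_apply, e]; module⟩
  obtain ⟨t, ht⟩ := es q' q2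
  have a := qs_of_es S inf_le_right (S.as_of_es (fun t _ => ⟨t / 2, by
    have := P.two; simp only [RingHom.id_apply]; field_simp; ring⟩) p1 q1 q2 q3
    (fun c => es _ (by simp [q1])) ht) p0 es
  obtain ⟨r, hr, e⟩ := P.exists_ne p0 (nd_ne U.nd p0)
  exact (le_of_qs S inf_le_right a (a.conj (g := toE F V r) ⟨mem_ME.2 (P.le hr), U.iso r hr⟩
    (U.iso r hr)) e).trans inf_le_left

theorem isom_OG {Q : QuadraticForm F V} (h2 : (2 : F) ≠ 0) (h : Isom (pB Q) g) :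
    toE F V g ∈ H11.OG Q := fun x => mul_left_cancel₀ h2 (by
  rw [← pB_self, ← pB_self]; exact h x x)

theorem CM.fin_o {Q : QuadraticForm F V} (P : CM R M) (U : RT 1 (pB Q) R M)
    (hn : 16 < finrank F V ^ 2) (h : Eta 1 (pB Q) R M) : OM Q ≤ ME M := by
  obtain ⟨p, p0, p1, h1, -⟩ := P.eta_fin U hn h
  have p2 : Q p = 0 := (mul_eq_zero.1 ((pB_self p).symm.trans p1)).resolve_left P.two
  obtain ⟨x, hx⟩ := DFunLike.ne_iff.1 (nd_ne U.nd p0)
  have a : AO Q (ME M ⊓ H11.OG Q) p := ⟨p2, fun v hv => ⟨hv, fun c => by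
    have v1 : pB Q p (c • v) = 0 := by simp [hv]
    obtain ⟨-, -, t, g, hg, i, e⟩ := h1 _ v1
    generalize c • v = y at *
    have o := isom_OG P.two i
    have := o x
    rw [toE_apply, e] at this
    simp only [Qadd, Qsub, H11.Q_smul, map_add, map_smul, LinearMap.add_apply, p2,
      LinearMap.smul_apply, smul_eq_mul, pB_comm x p, pB_comm x y, pB_zero v1] at this
    have e1 : t = Q y := mul_left_cancel₀ (mul_ne_zero hx hx) (by linear_combination -this)
    exact ⟨toE F V g, ⟨mem_ME.2 hg, o⟩, fun z => by rw [toE_apply, e, e1, one_mul]; rfl⟩⟩⟩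
  obtain ⟨r, hr, e⟩ := P.exists_ne p0 (nd_ne U.nd p0)
  have o := isom_OG P.two (U.iso r hr)
  exact (OM_le_of_two U.nd (by nlinarith) a (a.conj (g := toE F V r) ⟨mem_ME.2 (P.le hr), o⟩ o)
    e).trans inf_le_left

end Cfsg.Agent.C6
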