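import Cfsg.Agent.C6.RealB
import Cfsg.Agent.C6.Iface
import Mathlib.Algebra.QuadraticAlgebra.Basic

/-! The real types: the centraliser of an element of square `-1` over the quadratic extension. -/

set_option autoImplicit false
set_option linter.unusedSectionVars false
set_option linter.unusedVariables false
set_option linter.unusedSimpArgs false

namespace Cfsg.Agent.C6

open Module Cfsg.Agent.H27

universe u v

variable {F : Type u} {V : Type v} [Field F] [AddCommGroup V] [Module F V]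
variable [Finite F] [FiniteDimensional F V] {ε : F} {B : V →ₗ[F] V →ₗ[F] F}
variable {R M : Subgroup (GV F V)} {a b c d g h j k r s t u w x y z : GV F V} {p q : V}

theorem SI.sup {σ : F →+* F} {B : V →ₛₗ[σ] V →ₗ[F] F} (h : SI B M) : SI B (M ⊔ Sc F V) :=
  fun c hc => by
    obtain ⟨s, hs, m, hm, rfl⟩ := mem_RS.1 hc
    obtain ⟨t, ht, i⟩ := h m hm
    exact ⟨t * s⁻¹, mul_mem ht (inv_mem hs), by simpa [mul_assoc] using i⟩

section Ext

variable {K : Type u} [Field K] [Algebra F K] [Module K V] [IsScalarTower F K V] [Finite K]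
variable [FiniteDimensional K V] {σ : K →+* K} {ω ζ : K}

variable (F K V) in
/-- Restriction of scalars. -/
def resK : GV K V →* GV F V :=
  Units.map { toFun := fun f => f.restrictScalars F, map_one' := rfl, map_mul' := fun _ _ => rfl }

theorem resK_ap (g : GV K V) (x : V) : (resK F V K g).1 x = g.1 x := rfl

theorem resK_inj : Function.Injective (resK F V K) := fun g h e =>
  GV_ext fun v => by rw [← resK_ap (F := F), e, resK_ap]

theorem resK_neg (g : GV K V) : resK F V K (-g) = -resK F V K g := rfl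

theorem resK_sc {c : F} (hc : c ≠ 0) :
    resK F V K (sc V (algebraMap F K c) ((map_ne_zero _).2 hc)) = sc V c hc :=
  GV_ext fun v => algebraMap_smul K c v

/-- A quadratic extension acting through `u`. -/
structure QX (σ : K →+* K) (ω : K) (u : GV F V) : Prop where
  sq : ω * ω = -1
  smul : ∀ x : V, ω • x = u.1 x
  dec : ∀ k, ∃ a b : F, k = algebraMap F K a + algebraMap F K b * ω
  ns : ∀ i : F, i * i ≠ -1
  alg : ∀ c, σ (algebraMap F K c) = algebraMap F K c
  om : σ ω = -ω
  uf : UF.{u, v} σ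
  dim : 2 * finrank K V = finrank F V

namespace QX

variable (X : QX σ ω u)
include X

theorem ne : ω ≠ 0 := fun e => by simpa [e] using X.sq

theorem smul' (a b : F) (x : V) :
    (algebraMap F K a + algebraMap F K b * ω) • x = a • x + b • u.1 x := by
  rw [add_smul, mul_smul, algebraMap_smul, algebraMap_smul, X.smul]

theorem ind {a b : F} (h : algebraMap F K a = algebraMap F K b * ω) : a = 0 := by
  by_contra e
  have hb : b ≠ 0 := fun e' => e (by simpa [e'] using h)
  refine X.ns (a / b) ((algebraMap F K).injective ?_)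
  have := (map_ne_zero (algebraMap F K)).2 hb
  rw [map_mul, map_div₀, h, map_neg, map_one, ← X.sq]
  field_simp

theorem res_u : resK F V K (sc V ω X.ne) = u := GV_ext X.smul

theorem ip_res (g : GV K V) : ip (resK F V K g) u = 0 := ip_eq_zero.2 (GV_ext fun v => by
  rw [mul_ap, mul_ap, resK_ap, resK_ap, ← X.smul, ← X.smul, map_smul])

theorem lift (h : ip g u = 0) : ∃ g', resK F V K g' = g := by
  have A : ∀ {g : GV F V}, ip g u = 0 → ∃ f : End K V, ∀ x, f x = g.1 x := fun {g} h =>
    ⟨⟨g.1.toAddHom, fun k x => by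
      obtain ⟨a, b, rfl⟩ := X.dec k
      simp [X.smul', ip_ap h]⟩, fun _ => rfl⟩
  obtain ⟨f, e⟩ := A h
  obtain ⟨f', e'⟩ := A ((ip_inv_left _ _).trans h)
  exact ⟨⟨f, f', by ext x; simp [e, e', val_apply_inv], by ext x; simp [e, e', val_inv_apply]⟩,
    GV_ext e⟩

theorem pa (P : Pa R) (hu : u * u = -1) (hu' : u ∈ R) : Pa (R.comap (resK F V K)) where
  two := by simpa only [map_ofNat] using (map_ne_zero (algebraMap F K)).2 P.two
  nt := P.nt
  neg := P.neg
  comm x hx y hy := (P.comm _ hx _ hy).imp (fun e => resK_inj (F := F) (by simpa using e))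
    fun e => resK_inj (F := F) (by simpa [resK_neg] using e)
  sq x hx := (P.sq _ hx).imp (fun e => resK_inj (F := F) (by simpa using e))
    fun e => resK_inj (F := F) (by simpa [resK_neg] using e)
  span := eq_top_iff.2 fun f _ => by
    obtain ⟨f', h1, h2⟩ := P.span_ind (p := fun f => ∃ f' ∈ Submodule.span K
      ((fun x : GV K V => x.1) '' (R.comap (resK F V K) : Set (GV K V))),
      ∀ x, f' x = f x - u.1 (f (u.1 x))) (fun r hr => by
        rcases ip_cases r u with e | e
        · obtain ⟨r', rfl⟩ := X.lift e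
          exact ⟨r'.1 + r'.1, add_mem (Submodule.subset_span ⟨r', hr, rfl⟩)
            (Submodule.subset_span ⟨r', hr, rfl⟩), fun x => by
              rw [ip_ap e, sq_ap hu, sub_neg_eq_add]; rfl⟩
        · exact ⟨0, zero_mem _, fun x => by
            rw [← mul_ap r, P.anti (le_RS hr) (le_RS hu') e, neg_ap, mul_ap, map_neg, sq_ap hu]
            simp⟩) ⟨0, zero_mem _, by simp⟩
      (fun f g ⟨f', a, e⟩ ⟨g', b, e'⟩ => ⟨f' + g', add_mem a b, fun x => by
        simp only [LinearMap.add_apply, e, e', map_add]; abel⟩)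
      (fun c f ⟨f', a, e⟩ => ⟨algebraMap F K c • f', Submodule.smul_mem _ _ a, fun x => by
        simp only [LinearMap.smul_apply, e, map_smul, algebraMap_smul, smul_sub]⟩)
      (f.restrictScalars F)
    have h3 : (2 : K) ≠ 0 := by simpa only [map_ofNat] using (map_ne_zero (algebraMap F K)).2 P.two
    rw [← Submodule.smul_mem_iff _ h3]
    convert h1 using 1
    ext x
    rw [h2, LinearMap.smul_apply, two_smul, ← X.smul, ← X.smul]
    simp [smul_smul, X.sq]

theorem cm (P : CM R M) (hu : NN R u) :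
    CM (R.comap (resK F V K)) (M.comap (resK F V K) ⊔ Sc K V) := by
  have Q := X.pa P.toPa hu.2.1 hu.1
  refine ⟨Q, le_sup_right, fun x hx => Subgroup.mem_sup_left (P.le hx), fun a c ha hc =>
    Subgroup.mem_sup_left ?_⟩
  have A : ∀ {a}, NN (R.comap (resK F V K)) a → NN R (resK F V K a) ∧
      resK F V K (T a) = T (resK F V K a) := fun {a} ha => by
    have e : resK F V K a * resK F V K a = -1 := by rw [← map_mul, ha.2.1]; rfl
    refine ⟨⟨ha.1, e, fun h => ha.2.2 ?_⟩, GV_ext fun v => by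
      rw [resK_ap, T_ap Q.two ha.2.1, T_ap P.two e, resK_ap]⟩
    obtain ⟨c, hc, e⟩ := Sc_ap h
    exact mem_Sc_ap ((map_ne_zero (algebraMap F K)).2 hc) fun v => by
      rw [algebraMap_smul, ← e, resK_ap]
  rw [Subgroup.mem_comap, map_mul, (A ha).2, (A hc).2]
  exact P.tt _ _ (A ha).1 (A hc).1

/-- The form over the extension. -/
def form (B : V →ₗ[F] V →ₗ[F] F) (hu : u * u = -1) (i : Isom B u) (ζ : K) :
    V →ₛₗ[σ] V →ₗ[K] K :=
  LinearMap.mk₂'ₛₗ σ (RingHom.id K)
    (fun x y => ζ * (algebraMap F K (B x y) - algebraMap F K (B x (u.1 y)) * ω))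
    (fun x x' y => by simp only [map_add, LinearMap.add_apply]; ring)
    (fun k x y => by
      obtain ⟨a, b, rfl⟩ := X.dec k
      simp only [X.smul', map_add, map_smul, LinearMap.add_apply, LinearMap.smul_apply, map_mul,
        smul_eq_mul, i x y, i.adj x y, inv_of_sq hu, neg_ap, map_neg, X.alg, X.om]
      linear_combination -ζ * algebraMap F K b * algebraMap F K (B x (u.1 y)) * X.sq)
    (fun x y y' => by simp only [map_add]; ring)
    (fun k x y => by
      obtain ⟨a, b, rfl⟩ := X.dec k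
      simp only [X.smul', map_add, map_smul, map_mul, smul_eq_mul, sq_ap hu, map_neg,
        RingHom.id_apply]
      linear_combination ζ * algebraMap F K b * algebraMap F K (B x (u.1 y)) * X.sq)

theorem form_ap (hu : u * u = -1) (i : Isom B u) (x y : V) : X.form B hu i ζ x y =
    ζ * (algebraMap F K (B x y) - algebraMap F K (B x (u.1 y)) * ω) := rfl

theorem isom_iff (hu : u * u = -1) (i : Isom B u) (h0 : ζ ≠ 0) {g : GV K V} :
    Isom (X.form B hu i ζ) g ↔ Isom B (resK F V K g) := by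
  refine ⟨fun h x y => sub_eq_zero.1 (X.ind (b := B (g.1 x) (u.1 (g.1 y)) - B x (u.1 y)) ?_),
    fun h x y => ?_⟩
  · have := mul_left_cancel₀ h0 (h x y)
    simp only [map_sub, resK_ap]
    linear_combination this
  · rw [form_ap, form_ap, ← h x y, ← h x (u.1 y), ip_ap (X.ip_res g)]; rfl

theorem main (P : CM R M) (U : RT ε B R M) (h8 : 8 ≤ finrank F V) (hu : NN R u) (h0 : ζ ≠ 0)
    (hζ : σ ζ = -algebraMap F K ε * ζ) : CN R M u ∨ ∀ v, B v v = 0 → B v (u.1 v) = 0 →
      ∃ g ∈ M, Isom B g ∧ ∀ z, g.1 z = z + ζ • (B v z • v + B (u.1 v) z • u.1 v) := by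
  have i := U.iso u hu.1
  have d := X.dim
  have C := X.cm P hu
  have hI : HasI (R.comap (resK F V K)) := ⟨sc V ω X.ne, by
    rw [Subgroup.mem_comap, X.res_u]; exact hu.1, sc_mem _ _,
    resK_inj (F := F) (by rw [map_mul, X.res_u, hu.2.1]; rfl)⟩
  have U' : UT (X.form B hu.2.1 i ζ) (R.comap (resK F V K)) (M.comap (resK F V K) ⊔ Sc K V) := by
    refine ⟨X.uf, fun x y => ?_, fun x h => U.nd x fun y => X.ind (b := B x (u.1 y))
      (sub_eq_zero.1 ((mul_eq_zero.1 (h y)).resolve_left h0)),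
      fun x hx => (X.isom_iff _ _ h0).2 (U.iso _ hx), SI.sup fun g hg => ?_⟩
    · rw [form_ap, form_ap, U.sym x y, U.sym (u.1 x) y, i.adj, inv_of_sq hu.2.1, neg_ap]
      simp only [map_mul, map_sub, map_neg, X.alg, X.om, hζ]
      ring
    · obtain ⟨s, ⟨c, hc, e⟩, i⟩ := U.si _ hg
      refine ⟨_, sc_mem _ ((map_ne_zero (algebraMap F K)).2 hc), (X.isom_iff _ _ h0).2 ?_⟩
      rwa [map_mul, resK_sc hc, show sc V c hc = s from Units.ext e.symm]
  refine (C.main_u hI (by omega) U').imp (fun h g hg g1 x hx x1 => ?_) fun h v v1 v2 => ?_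
  · obtain ⟨g, rfl⟩ := X.lift g1
    obtain ⟨x, rfl⟩ := X.lift x1
    have g2 := Subgroup.mem_sup_left (T := Sc K V) (Subgroup.mem_comap.2 hg)
    simpa using le_RS (Subgroup.mem_comap.1 (C.bk_of_hasI hI _ g g2 x hx
      (mem_Nrm_apply (h g2) (le_RS (R := R.comap (resK F V K)) hx))))
  have v3 : X.form B hu.2.1 i ζ v v = 0 := by simp [form_ap, v1, v2]
  obtain ⟨g, hg, e⟩ := t1_ME.1 (t1_of_sup (by simpa using v3)
    (Has.mono (U'.uh.exists_tvS v3 (map_one σ)) h))
  refine ⟨_, hg, (X.isom_iff hu.2.1 i h0).1 (C6.isom_iff.2 (U'.uh.iso_of_t1 v3 (map_one σ) e)),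
    fun z => ?_⟩
  rw [resK_ap, e, one_smul, form_ap, mul_smul, i.adj, inv_of_sq hu.2.1, neg_ap, map_neg,
    ← X.smul', map_neg, neg_mul, sub_eq_add_neg]

end QX

end Ext

theorem exists_qx (pf : ∀ a : F, PF a) (h2 : (2 : F) ≠ 0) (hu : u * u = -1)
    (ns : ∀ i : F, i * i ≠ -1) : ∃ (K : Type u) (_ : Field K) (_ : Algebra F K) (_ : Module K V)
      (_ : IsScalarTower F K V) (_ : Finite K) (_ : FiniteDimensional K V) (σ : K →+* K) (ω : K),
      QX σ ω u := by
  have : Fact (∀ r : F, r ^ 2 ≠ -1 + 0 * r) := ⟨fun r => by simpa [sq] using ns r⟩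
  let K := QuadraticAlgebra F (-1) 0
  let φ : K →ₐ[F] End F V := QuadraticAlgebra.lift ⟨u.1, by simp [val_sq hu]⟩
  letI : Module K V := Module.compHom V φ.toRingHom
  have sm : ∀ (k : K) (x : V), k • x = φ k x := fun _ _ => rfl
  have : IsScalarTower F K V := ⟨fun c k x => by rw [sm, sm, map_smul]; rfl⟩
  have : Finite K := Finite.of_equiv _ (QuadraticAlgebra.equivProd (-1 : F) 0).symm
  have : FiniteDimensional K V := Module.Finite.of_restrictScalars_finite F K V
  have := Fintype.ofFinite F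
  have := Fintype.ofFinite K
  have hd : finrank F K = 2 := QuadraticAlgebra.finrank_eq_two _ _
  have : Fact (Fintype.card K = Fintype.card F ^ 2) := ⟨H98.card_sq_of_two hd⟩
  have sq : (QuadraticAlgebra.omega : K) * QuadraticAlgebra.omega = -1 := by
    rw [QuadraticAlgebra.omega_mul_omega_eq_add]; simp
  have dec : ∀ k : K, ∃ a b : F, k = algebraMap F K a + algebraMap F K b * QuadraticAlgebra.omega :=
    fun k => ⟨k.re, k.im, by ext <;> simp [K]⟩
  have alg : ∀ c, H10.cj K (Fintype.card F) (algebraMap F K c) = algebraMap F K c := fun c => by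
    rw [H10.cj_apply, ← map_pow, FiniteField.pow_card]
  have om : H10.cj K (Fintype.card F) QuadraticAlgebra.omega = -QuadraticAlgebra.omega := by
    refine (mul_self_eq_mul_self_iff.1 (by rw [← map_mul, sq]; simp)).resolve_left fun e => ?_
    obtain ⟨k, hk⟩ := H10.exists_cj_ne K (Fintype.card F)
    obtain ⟨a, b, rfl⟩ := dec k
    exact hk (by simp only [map_add, map_mul, alg, e])
  refine ⟨K, inferInstance, inferInstance, inferInstance, inferInstance, inferInstance,
    inferInstance, H10.cj K (Fintype.card F), QuadraticAlgebra.omega, sq, fun x => by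
      rw [sm]; change (_ • (1 : End F V) + _ • u.1) x = _; simp, dec, ns, alg, om, ⟨fun k hk => ?_, fun W _ _ _ C a b => H98.uH_of a b
        fun h => h2 ?_⟩, by rw [← hd, finrank_mul_finrank]⟩
  · obtain ⟨a, b, rfl⟩ := dec k
    simp only [map_add, map_mul, alg, om] at hk
    have h3 : (2 : K) ≠ 0 := by simpa only [map_ofNat] using (map_ne_zero (algebraMap F K)).2 h2
    have : algebraMap F K b * QuadraticAlgebra.omega = 0 :=
      (mul_eq_zero.1 (by linear_combination -hk)).resolve_left h3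
    obtain ⟨n, rfl⟩ := pf a
    exact ⟨n, by rw [this, add_zero, map_natCast]⟩
  · have := FiniteField.cast_card_eq_zero F
    rwa [h.2] at this

theorem CM.nonsplit (P : CM R M) (U : RT ε B R M) (hn : 16 < finrank F V ^ 2)
    (h8 : 8 ≤ finrank F V) (hu : NN R u) (ns : ∀ i : F, i * i ≠ -1) :
    CN R M u ∨ Eta ε B R M := by
  obtain ⟨K, _, _, _, _, _, _, σ, ω, X⟩ := exists_qx U.pf P.two hu.2.1 ns
  obtain ⟨w, hw, w1, w2, -⟩ := P.exists_anti_sq (Or.inr hn) hu.1 hu.1 (ip_self u) hu.2.2 hu.2.2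
    (Or.inl rfl)
  have I : Iv R w := ⟨le_RS hw, w1, not_Sc_of_ip w2⟩
  have iw := U.iso w hw
  have iu := U.iso u hu.1
  have wu := P.anti hu.RS I.mem ((ip_comm _ _).trans w2)
  have d := P.finrank_Vp I
  rcases U.eps with rfl | rfl
  · refine (X.main P U h8 hu X.ne (by rw [X.om]; simp)).imp id fun h => ?_
    obtain ⟨v, hv, v1, v0⟩ := exists_sing_sub (Q := LinearMap.BilinMap.toQuadraticMap B)
      (X := Vp w) (by omega)
    have v2 := Vp_anti wu hv
    have v3 := iw.orth P.two hv v2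
    obtain ⟨g, hg, i, e⟩ := h v v1 v3
    exact ⟨w, hw, I, v, hv, _, v2, v0, ap_ne u v0, v1, v3, 0, g, hg, i, fun z => by
      rw [e, X.smul, map_add, map_smul, map_smul, sq_ap hu.2.1]; module⟩
  refine (X.main P U h8 hu one_ne_zero (by simp)).imp id fun h => ?_
  have alt : ∀ x, B x x = 0 := fun x => (mul_eq_zero.1
    (by linear_combination U.sym x x : 2 * B x x = 0)).resolve_left P.two
  have hl : ∀ a ∈ [u, w], a ∈ RS R := by simp [hu.RS, I.mem]
  obtain ⟨a, ha, a1, a2⟩ := P.exists_NN' hl (by simpa using hn)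
  obtain ⟨c, hc, c1, c2⟩ := P.exists_NN' (l := [a, w]) (by simp [ha.RS, I.mem]) (by simpa using hn)
  have c3 := (ip_comm _ _).trans (c1 a (by simp))
  have I' : Iv R (a * c) := ⟨mul_mem ha.RS hc.RS, by
    rw [P.sq_mul_comm c3, ha.2.1, hc.2.1]; simp, fun e => c2 (Or.inr (Or.inl e))⟩
  have r1 : ip (a * c) w = 0 := ip_mul_zero (a1 w (by simp)) (c1 w (by simp))
  have r2 : ¬ Sp [-w] (a * c) := fun e => c2 (Or.inr (sp_neg_one.1 e))
  have hr := mul_mem ha.1 hc.1
  generalize a * c = r at *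
  obtain ⟨p, p0, p1, p2⟩ := P.exists_joint I.neg I' (by rwa [ip_neg_right]) r2
  obtain ⟨q, q0, q1, q2⟩ := P.exists_joint I.neg I'.neg (by rwa [ip_neg_left, ip_neg_right])
    (by rwa [sp_neg])
  have pq := (U.iso r hr).orth P.two p2 q2
  have qp := U.zero_symm pq
  have h1 := (Vp _).add_mem p1 q1
  have h2 : -u.1 (p + q) ∈ Vp w := neg_mem (Vp_anti' wu h1)
  have h3 : u.1 (-u.1 (p + q)) = p + q := by rw [map_neg, sq_ap hu.2.1, neg_neg]
  generalize -u.1 (p + q) = v at *
  obtain ⟨g, hg, i, e⟩ := h v (alt v) (by rw [h3]; exact iw.orth P.two h2 h1)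
  obtain ⟨k, hk, ik, k1, k2⟩ := P.ctrl_iso U hn I hw hr r1
  have k3 : k.1 (p + q) = p - q := by
    rw [k2 _ h1, map_add, mem_Vp.1 p2, mem_Vp_neg.1 q2, sub_eq_add_neg]
  have vp := iw.orth P.two h2 p1
  have vq := iw.orth P.two h2 q1
  have pv := U.zero_symm vp
  have qv := U.zero_symm vq
  have e' : ∀ z, (k * g * k⁻¹).1 z = z + (B v z • v + B (p - q) z • (p - q)) := fun z => by
    rw [mul_ap, mul_ap, e, h3, ← ik v, ← ik (p + q), one_smul]
    simp only [map_add k.1 _ (_ + _ : V), map_add k.1 (_ • v), map_smul, val_apply_inv, k3, k1 v h2]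
  refine ⟨r, hr, I', p, p2, (2 : F) • q, (Vp _).smul_mem _ q2, p0, smul_ne_zero P.two q0, alt p,
    by simp [pq], 0, g * (k * g * k⁻¹)⁻¹,
    mul_mem hg (inv_mem (mul_mem (mul_mem hk hg) (inv_mem hk))),
    i.mul ((ik.mul i).mul ik.inv).inv, fun z => ?_⟩
  rw [mul_ap, inv_ap (v := z - (B v z • v + B (p - q) z • (p - q))) (by
    rw [e']; simp [alt, vp, vq, pv, qv, pq, qp]), e, h3]
  simp only [map_add, map_sub, map_smul, LinearMap.add_apply, LinearMap.sub_apply,
    LinearMap.smul_apply, alt, vp, vq, pv, qv, pq, qp, smul_eq_mul, two_smul]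
  module

/-- The real types. -/
theorem CM.main_r (P : CM R M) (U : RT ε B R M) (h8 : 8 ≤ finrank F V)
    (h : 10 ≤ finrank F V ∨ ∀ w ∈ R, Iv R w → MT (rs w R)) : M ≤ Nrm R ∨ Eta ε B R M := by
  have hn : 16 < finrank F V ^ 2 := by nlinarith
  refine or_iff_not_imp_right.2 fun hE => P.real_of_cn (U.bk P.toPa) (U.noI P.toPa) hn
    (fun w hw I => ?_) fun a ha => ?_
  · have U' := U.rs P.two hw I.sq
    have d := P.finrank_Vp I
    exact ⟨U'.bk (P.rs_pa I), U'.noI (P.rs_pa I), h.imp (fun h => by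
      have : 5 ≤ finrank F (Vp w) := by omega
      nlinarith) fun h => h w hw I⟩
  by_cases ns : ∀ i : F, i * i ≠ -1
  · exact (P.nonsplit U hn h8 ha ns).resolve_right hE
  · push Not at ns
    obtain ⟨i, hi⟩ := ns
    exact (P.split U hn h8 ha hi).resolve_right hE

end Cfsg.Agent.C6
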