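import Cfsg.Agent.C6.RealC
import Cfsg.Agent.C6.Hall2
import Cfsg.Agent.H27.OInv

/-! Maximality of the normalisers of extraspecial `2`-groups in symplectic and orthogonal groups. -/

set_option autoImplicit false
set_option linter.unusedSectionVars false
set_option linter.unusedVariables false
set_option linter.unusedSimpArgs false

namespace Cfsg.Agent.C6

open Module Cfsg.Agent.H27 Cfsg.Geo
open scoped MatrixGroups Matrix commutatorElement

universe u v

section GV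

variable {F : Type u} {V : Type v} [Field F] [AddCommGroup V] [Module F V]
variable [Finite F] [FiniteDimensional F V] {B : V →ₗ[F] V →ₗ[F] F} {Q : QuadraticForm F V}
variable {R G M : Subgroup (GV F V)} {a b c d g h j k r s t u w x y z : GV F V}

theorem Pa.max_sp (P : Pa R) (pf : ∀ a : F, PF a) (alt : ∀ x, B x x = 0)
    (nd : ∀ x, (∀ y, B x y = 0) → x = 0) (iso : ∀ x ∈ R, Isom B x) (h8 : 8 ≤ finrank F V)
    (h : 10 ≤ finrank F V ∨ ∀ w ∈ R, Iv R w → MT (rs w R)) :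
    IsMaximalIn ((GG B).comap (toE F V : GV F V →* _))
      (Subgroup.normalizer (R : Set (GV F V)) ⊓ (GG B).comap (toE F V : GV F V →* _)) := by
  have hn : 16 < finrank F V ^ 2 := by nlinarith
  have S := skH_alt alt nd
  have U : ∀ M ≤ (GG B).comap (toE F V : GV F V →* _), RT (-1) B R (M ⊔ Sc F V) := fun M hM =>
    ⟨pf, Or.inr rfl, fun x y => by simpa using S.skew x y, nd, iso,
      si_sup fun g hg => isom_iff.2 (hM hg).1⟩
  refine P.max_of (by omega) ((U _ le_rfl).bk P) (fun a c ha hc => ⟨isom_iff.1 (isom_TT P.two ha.2.1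
    hc.2.1 (iso a ha.1) (iso c hc.1)), P.det_TT (Or.inr hn) (by omega) ha hc⟩) ?_
    fun M hM C => (C.main_r (U M hM) h8 h).imp id fun e => le_of_ME (S.gen _ fun v hv c hc =>
      t1_of_sup (by simp [hv]) (Has.mono (S.exists_tvS hv hc) (C.fin_sp (U M hM) hn e)))
  have := P.nt
  obtain ⟨v, v1⟩ := _root_.exists_ne (0 : V)
  obtain ⟨t, t1, t2⟩ := S.exists_tvS (alt v) (c := 1) rfl
  refine ⟨(toE F V).symm t, by simpa using t1,
    P.tv_not_nrm (by omega) v1 (nd_ne nd v1) (alt v) fun x => ?_⟩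
  rw [← toE_apply, MulEquiv.apply_symm_apply, t2, one_smul]

theorem comm_mem_OM {g h : V ≃ₗ[F] V} (hg : g ∈ H11.OG Q) (hh : h ∈ H11.OG Q) :
    g * h * g⁻¹ * h⁻¹ ∈ OM Q :=
  ⟨⁅(⟨g, hg⟩ : H11.OG Q), (⟨h, hh⟩ : H11.OG Q)⁆,
    Subgroup.commutator_mem_commutator (Subgroup.mem_top _) (Subgroup.mem_top _), rfl⟩

theorem Pa.TT_mem_OM (P : Pa R) (hn : 16 < finrank F V ^ 2) (iso : ∀ x ∈ R, Isom (pB Q) x)
    (ha : NN R a) (hc : NN R c) : toE F V ((T a)⁻¹ * T c) ∈ OM Q := by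
  have o : ∀ a c, NN R a → NN R c → (T a)⁻¹ * T c ∈ (H11.OG Q).comap (toE F V : GV F V →* _) :=
    fun a c ha hc => isom_OG P.two (isom_TT P.two ha.2.1 hc.2.1 (iso a ha.1) (iso c hc.1))
  have C := P.cm_sup (by omega) o
  have A : ∀ {a c}, NN R a → NN R c → ip a c = 1 → toE F V ((T a)⁻¹ * T c) ∈ OM Q :=
    fun {a c} ha hc e => by
      obtain ⟨d, hd, d1, d2⟩ := P.exists_perp_nn (by omega) ha hc
      obtain ⟨k, hk, k1, k2⟩ := C.move_perp hd ha hc ((ip_comm _ _).trans d1)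
        ((ip_comm _ _).trans d2) e
      obtain ⟨s, hs, m, hm, rfl⟩ := mem_RS.1 hk.1
      rw [ip_smul_left hs, ip_comm] at k1
      rw [conj_mul, Sc_conj' hs] at k2
      have := comm_mem_OM (o a d ha hd) hm
      rw [← k2, ← T_conj P.two ha.2.1]
      convert this using 1
      simp only [MonoidHom.coe_coe, ← map_mul, ← map_inv]
      rw [mul_assoc (T a)⁻¹ (T d), ip_eq_zero.1 (ip_T P.two hd.2.1 k1)]
      congr 1; group
  rcases ip_cases a c with e | e
  · obtain ⟨u, hu, u1, u2, u3⟩ := P.exists_anti_sq (Or.inr hn) ha.1 hc.1 e ha.2.2 hc.2.2 (Or.inr rfl)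
    have hu' : NN R u := ⟨hu, u1, not_Sc_of_ip u2⟩
    simpa [← map_mul, mul_assoc] using mul_mem (A ha hu' ((ip_comm _ _).trans u2)) (A hu' hc u3)
  · exact A ha hc e

theorem Pa.max_o (P : Pa R) (pf : ∀ a : F, PF a) (nd : H11.ND Q) (iso : ∀ x ∈ R, Isom (pB Q) x)
    (h : 10 ≤ finrank F V) : IsMaximalIn ((OM Q).comap (toE F V : GV F V →* _))
      (Subgroup.normalizer (R : Set (GV F V)) ⊓ (OM Q).comap (toE F V : GV F V →* _)) := by
  have hn : 16 < finrank F V ^ 2 := by nlinarith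
  have U : ∀ M ≤ (OM Q).comap (toE F V : GV F V →* _), RT 1 (pB Q) R (M ⊔ Sc F V) := fun M hM =>
    ⟨pf, Or.inl rfl, fun x y => by rw [one_mul, pB_comm], nd, iso,
      si_sup fun g hg => isom_iff.2 (OG_le_Iso (OM_le (hM hg)))⟩
  refine P.max_of (by omega) ((U _ le_rfl).bk P) (fun a c => P.TT_mem_OM hn iso) ?_
    fun M hM C => (C.main_r (U M hM) (by omega) (Or.inl h)).imp id fun e => le_of_ME ?_
  · obtain ⟨p, -, p1, p0⟩ := exists_sing_sub (Q := Q) (X := ⊤) (by rw [finrank_top]; omega)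
    obtain ⟨φ, e⟩ := Projective.exists_dual_ne_zero F p0
    have d1 := finrank_le_inf_ker (⊤ : Submodule F V) (pB Q p)
    have d2 := finrank_le_inf_ker (⊤ ⊓ LinearMap.ker (pB Q p)) φ
    rw [finrank_top] at d1
    obtain ⟨q, ⟨⟨-, q1⟩, q2⟩, q3, q0⟩ := exists_sing_sub (Q := Q)
      (X := ⊤ ⊓ LinearMap.ker (pB Q p) ⊓ LinearMap.ker φ) (by omega)
    change pB Q p q = 0 at q1
    change φ q = 0 at q2
    obtain ⟨t, t1, t2⟩ := exists_eich nd (by omega) p1 q1
    refine ⟨(toE F V).symm t, by simpa using t1, fun hg => ?_⟩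
    have := P.unip_nrm (N := (pB Q p).smulRight q - (pB Q q).smulRight p) (by
        ext x; simp [pB_self, p1, q3, q1, pB_zero q1]) (by
        ext x
        rw [← toE_apply, MulEquiv.apply_symm_apply, t2]
        simp [eF, q3, add_sub_assoc]) [pB Q p, pB Q q]
      (fun x hx => by simp [hx (pB Q p), hx (pB Q q)]) (by simp; omega) hg
    refine q0 (nd q fun x => ?_)
    simpa [q2, e, pB_eq] using congrArg φ (LinearMap.congr_fun this x)
  · have := C.fin_o (U M hM) hn e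
    rw [← OM_perfect nd (by omega), Subgroup.commutator_le]
    intro g hg h hh
    obtain ⟨g, g1, rfl⟩ := this hg
    obtain ⟨h, h1, rfl⟩ := this hh
    obtain ⟨s, hs, g, g2, rfl⟩ := mem_RS.1 g1
    obtain ⟨s', hs', h, h2, rfl⟩ := mem_RS.1 h1
    refine ⟨g * h * g⁻¹ * h⁻¹, mul_mem (mul_mem (mul_mem g2 h2) (inv_mem g2)) (inv_mem h2), ?_⟩
    rw [← map_commutatorElement, commutatorElement_def, conj_mul, Sc_conj' hs,
      show g * (s' * h) * g⁻¹ * (s' * h)⁻¹ = g * s' * g⁻¹ * (g * h * g⁻¹ * h⁻¹) * s'⁻¹ by group,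
      Sc_conj hs', Sc_conj' hs']

theorem Pa.noI_of (P : Pa R) (nd : ∀ x, (∀ y, B x y = 0) → x = 0) (iso : ∀ x ∈ R, Isom B x) :
    NoI R := fun s hs h => by
  have := P.nt
  rcases isom_Sc nd h (iso s hs) with rfl | rfl <;> simp

theorem Pa.mt_of_minus (P : Pa R) (hs : NoI R) (hm : IsOfMinusType 3 R) (hw : w ∈ R) (I : Iv R w) :
    MT (rs w R) := by
  intro x' hx' y' hy' x2 y2 e x3 y3
  by_contra hc
  obtain ⟨x, hx, x1, ox⟩ := mem_rs.1 hx'
  obtain ⟨y, hy, y1, oy⟩ := mem_rs.1 hy'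
  have P' := P.rs_pa I
  have sq : ∀ {x x'}, x ∈ R → On (Vp w) x x' → x' * x' = 1 → x * x = 1 := fun hx o e =>
    (P.sq _ hx).resolve_right fun h => P'.ne_neg 1 (e.symm.trans (o.sq h))
  rw [P.on_ip I (le_RS hx) (le_RS hy) ox oy] at e
  have := finite_GV (F := F) (V := V)
  let H : ∀ l : List (GV F V), (∀ a ∈ l, a ∈ RS R) → Subgroup R := fun l hl =>
    { carrier := {z | Sp l z.1}
      mul_mem' := P.sp_mul hl
      one_mem' := sp_of_Sc (one_mem _)
      inv_mem' := P.sp_inv hl }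
  have lt : ∀ {X Y : Subgroup R} (a : R), X ≤ Y → a ∈ Y → a ∉ X → 2 * Nat.card X ≤ Nat.card Y :=
    fun {X Y} a h h1 h2 => by
      obtain ⟨n, hn⟩ := Subgroup.card_dvd_of_le h
      have h3 : Nat.card X < Nat.card Y := Set.Finite.card_lt_card (Set.toFinite _)
        ⟨h, fun e => h2 (e h1)⟩
      have : 1 < n := by by_contra e; interval_cases n <;> omega
      nlinarith
  have st : ∀ l hl (a : GV F V) (ha : a ∈ R) hl', ¬ Sp l a →
      2 * Nat.card (H l hl) ≤ Nat.card (H (a :: l) hl') := fun l hl a ha hl' h =>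
    lt ⟨a, ha⟩ (fun _ h => Or.inl h) (P.sp_of_mem hl' (by simp)) h
  have l1 : ∀ a ∈ [w], a ∈ RS R := by simpa using I.mem
  have l2 : ∀ a ∈ [x, w], a ∈ RS R := by simp [I.mem, le_RS hx]
  have l3 : ∀ a ∈ [y, x, w], a ∈ RS R := by simp [I.mem, le_RS hx, le_RS hy]
  have s0 := lt (X := ⊥) (Y := H [] (by simp)) ⟨-1, P.neg⟩ bot_le neg_one_mem_Sc fun e =>
    P.ne_neg 1 (congrArg Subtype.val (Subgroup.mem_bot.1 e)).symm
  have s1 := st [] (by simp) w hw l1 I.ns
  have s2 := st _ l1 x hx l2 (mt (P.on_mem_Sc I (le_RS hx) ox).2 x3)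
  have s3 := st _ l2 y hy l3 fun h => h.elim (mt (P.on_mem_Sc I (le_RS hy) oy).2 y3)
    (mt (P.on_mem_Sc I (mul_mem (le_RS hx) (le_RS hy)) (ox.mul oy)).2 hc)
  have cm : ∀ a ∈ [y, x, w], ∀ b ∈ [y, x, w], ip a b = 0 := by
    simp [ip_self, e, x1, y1, ip_comm y x, ip_comm w]
  have sq' : ∀ l : List (GV F V), (∀ a ∈ l, a ∈ R ∧ a * a = 1) → (∀ a ∈ l, ∀ b ∈ l, ip a b = 0) →
      ∀ z ∈ R, Sp l z → z * z = 1 := fun l => by
    induction l with
    | nil => exact fun _ _ => hs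
    | cons a l ih =>
      intro h1 h2 z hz h
      have i := ih (fun b hb => h1 b (by simp [hb])) fun b hb c hc => h2 b (by simp [hb]) c (by simp [hc])
      obtain ⟨a1, a2⟩ := h1 a (by simp)
      refine h.elim (i z hz) fun h' => ?_
      have := i _ (mul_mem a1 hz) h'
      rwa [P.sq_mul_comm (Sp.ip h (h2 a (by simp))), a2, one_mul] at this
  have := hm (H _ l3) ⟨⟨fun a b => Subtype.ext (Subtype.ext (ip_eq_zero.1 (Sp.ip b.2 fun c hc =>
      (ip_comm _ _).trans (Sp.ip a.2 (cm c hc)))))⟩⟩ fun z hz => Subtype.ext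
    (sq' _ (by simp [hw, hx, hy, I.sq, sq hx ox x2, sq hy oy y2]) cm _ z.2 hz)
  rw [Subgroup.card_bot] at s0
  omega

end GV

section Mat

variable {ι : Type} [Fintype ι] [DecidableEq ι] {F : Type u} [Field F] [Finite F]
variable {R : Subgroup (GL ι F)}

theorem pa_two [Nonempty ι] (hR : IsSymplecticTypeGroup 2 R)
    (hi : ActsAbsolutelyIrreducibly (matrixSet R)) (hz : Nat.card (Subgroup.center R) = 2) :
    Pa (mG R) :=
  pa_mG hR hi (comm_le_center_two hR.pGroup (fun x => by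
    have := Monoid.pow_exponent_eq_one x
    rwa [hR.exponent_eq] at this) hR.cyclic_of_characteristic hz) (by rw [hz])

theorem minus_mG {k : ℕ} (h : IsOfMinusType k R) : IsOfMinusType k (mG R) := fun A h1 h2 => by
  have := h (A.comap (mE R : R →* mG R)) ⟨⟨fun a b => Subtype.ext ((mE R).injective (by
      have := congrArg Subtype.val (h1.is_comm.comm ⟨_, a.2⟩ ⟨_, b.2⟩)
      simpa using this))⟩⟩ fun x hx => (mE R).injective (by simpa using h2 _ hx)
  rwa [Subgroup.comap_equiv_eq_map_symm, Subgroup.card_map_of_injective (MulEquiv.injective _)]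
    at this

end Mat

variable {F : Type u} [Field F] [Fintype F]

theorem isMaximalIn_sp {m : ℕ} {p : ℕ} (hp : p.Prime) (hF : Fintype.card F = p)
    {R : Subgroup (GL (Fin m ⊕ Fin m) F)} (hR : IsSymplecticTypeGroup 2 R)
    (hi : ActsAbsolutelyIrreducibly (matrixSet R)) (hle : R ≤ Cfsg.spGL m F)
    (hz : Nat.card (Subgroup.center R) = 2) (h4 : 4 ≤ m) (hm : 5 ≤ m ∨ IsOfMinusType 3 R) :
    IsMaximalIn (Cfsg.spGL m F) (subgroupNormalizer R ⊓ Cfsg.spGL m F) := by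
  have : Nonempty (Fin m) := ⟨⟨0, by omega⟩⟩
  have P := pa_two hR hi hz
  rw [← comap_GG_symp] at hle ⊢
  have iso : ∀ x ∈ mG R, Isom (sympBilin m F) x := by
    rintro _ ⟨x, hx, rfl⟩
    exact (hle hx).1
  exact max_mat (P.max_sp (pf_of_card hp hF) sympBilin_isAlt sympBilin_nondegenerate.1 iso
    (by simp; omega) (hm.imp (fun h => by simp; omega) fun h w => P.mt_of_minus
      (P.noI_of (skH_symp (m := m)).nd iso) (minus_mG h)))

theorem isMaximalIn_om {n : ℕ} (hn : 10 ≤ n) {Q : (Fin n → F) → F}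
    (hQ : IsNondegenerateQuadraticForm Q) {p : ℕ} (hp : p.Prime) (hF : Fintype.card F = p)
    {R : Subgroup (GL (Fin n) F)} (hR : IsSymplecticTypeGroup 2 R)
    (hi : ActsAbsolutelyIrreducibly (matrixSet R)) (hle : R ≤ Cfsg.isometryGroup F Q)
    (hz : Nat.card (Subgroup.center R) = 2) :
    IsMaximalIn (omegaGL Q) (subgroupNormalizer R ⊓ omegaGL Q) := by
  have : Nonempty (Fin n) := ⟨⟨0, by omega⟩⟩
  obtain ⟨Q, rfl, nd⟩ := H11.exists_qf hQ
  rw [← comap_OM]
  refine max_mat ((pa_two hR hi hz).max_o (pf_of_card hp hF) nd ?_ (by simpa using hn))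
  rintro _ ⟨x, hx, rfl⟩
  exact OG_pB (g := toLE _ F x) fun v => hle hx v v

end Cfsg.Agent.C6
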