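import Cfsg.Agent.C6.B1
import Cfsg.Agent.C6.Fin

/-! Normalisers of symplectic type `2`-groups: a special configuration in dimension four. -/

set_option autoImplicit false
set_option linter.unusedSectionVars false
set_option linter.unusedVariables false
set_option linter.unusedSimpArgs false

namespace Cfsg.Agent.C6

open Module Cfsg.Agent.H27

universe u v

variable {F : Type u} {V : Type v} [Field F] [AddCommGroup V] [Module F V]
variable [Finite F] [FiniteDimensional F V] {σ : F →+* F} {B : V →ₛₗ[σ] V →ₗ[F] F}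
variable {R K L M : Subgroup (GV F V)} {a b c d g h j k r s t u w w' x y z : GV F V}

theorem ex_on' {W : Submodule F V} (h : ∀ v ∈ W, g.1 v ∈ W) : ∃ h, On W g h :=
  ex_on h fun v hv => (mem_stab.1 (mem_stab_of_mapsTo (g := toE F V g) h) _).2 (by
    rwa [toE_apply, val_apply_inv])

theorem big_of_rank (hg : g ∈ M) {v x0 : V} (h0 : v ≠ 0) (h1 : g.1 v = v)
    (h2 : ∀ x, ∃ c : F, g.1 x = x + c • v) (h3 : g.1 x0 ≠ x0) : Big M := by
  obtain ⟨l, hl⟩ := Module.Projective.exists_dual_eq_one F h0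
  have h4 : ∀ x, g.1 x = x + (l ∘ₗ (g.1 - 1)) x • v := fun x => by
    obtain ⟨c, e⟩ := h2 x
    simp [e, hl]
  exact ⟨v, l ∘ₗ (g.1 - 1), h0, fun e => h3 (by rw [h4, e]; simp), by simp [h1],
    t1_ME.2 ⟨g, hg, h4⟩⟩

theorem dk' (hn : finrank F V = 2) (hs : s ∈ L) (ht : t ∈ L) (s4 : s ^ 4 ∈ Sc F V)
    (t4 : t ^ 4 ∈ Sc F V) (st : s ^ 2 * t ^ 2 * (t ^ 2 * s ^ 2)⁻¹ ∉ Sc F V) : Big L := by
  refine (dk hn hs ht s4 (fun h => st ?_) t4 (fun h => st ?_) fun h => st ?_).resolve_right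
    fun h => st h.1
  · rw [Sc_comm h, mul_inv_cancel]; exact (Sc F V).one_mem
  · rw [Sc_comm h, mul_inv_cancel]; exact (Sc F V).one_mem
  · rw [← QuotientGroup.eq_one_iff] at h ⊢
    simp only [QuotientGroup.mk_mul, QuotientGroup.mk_inv, QuotientGroup.mk_pow,
      mul_inv_eq_one] at h ⊢
    exact Commute.pow_pow h 2 2

theorem big_of_two (h2 : (2 : F) ≠ 0) (h3 : (3 : F) ≠ 0) {i : F} (hi : i * i = -1) {Pr : End F V}
    {φ ψ : Dual F V} {p q : V} (hg : g ∈ M) (hh : h ∈ M)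
    (e1 : ∀ x, g.1 x = x + (i - 1) • Pr x - ((i + 1) * φ x) • p)
    (e2 : ∀ x, h.1 x = x + (i - 1) • Pr x - ((i + 1) * ψ x) • q) (a1 : Pr p = 0) (a2 : Pr q = 0)
    (a3 : ∀ x, φ (Pr x) = 0) (a4 : ∀ x, ψ (Pr x) = 0) (a5 : ∀ x, Pr (Pr x) = Pr x)
    (a6 : φ p = 1) (a7 : ψ q = 1) (a8 : 4 * (φ q * ψ p) = 1) : Big M := by
  have i0 : i ≠ 0 := by rintro rfl; simp at hi
  have h4 : (4 : F) ≠ 0 := by rintro e; simp [e] at a8
  have ind : ∀ α β : F, α • p + β • q = 0 → α = 0 ∧ β = 0 := fun α β e => by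
    have b1 := congrArg φ e
    have b2 := congrArg ψ e
    simp only [map_add, map_smul, a6, a7, smul_eq_mul, map_zero] at b1 b2
    exact ⟨(mul_eq_zero.1 (by linear_combination 4 * b1 - 4 * φ q * b2 + α * a8)).resolve_left h3,
      (mul_eq_zero.1 (by linear_combination 4 * b2 - 4 * ψ p * b1 + β * a8)).resolve_left h3⟩
  let W := Submodule.span F (Set.range ![p, q])
  have hW : finrank F W = 2 := finrank_span_eq_card (LinearIndependent.pair_iff.2 ind)
  have hp : p ∈ W := Submodule.subset_span ⟨0, rfl⟩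
  have hq : q ∈ W := Submodule.subset_span ⟨1, rfl⟩
  have mW : ∀ x ∈ W, ∃ α β : F, α • p + β • q = x := fun x hx => by
    simpa [W, Submodule.mem_span_pair, Set.pair_comm q p] using hx
  have b1 : ∀ x ∈ W, Pr x = 0 := fun x hx => by
    obtain ⟨α, β, rfl⟩ := mW x hx
    simp [a1, a2]
  let Z := LinearMap.ker Pr ⊓ LinearMap.ker φ ⊓ LinearMap.ker ψ
  let X := M ⊓ ScOn (LinearMap.range Pr) ⊓ ScOn Z
  have key : ∀ {g : GV F V} {φ : Dual F V} {p : V}, g ∈ M → p ∈ W → φ p = 1 →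
      (∀ x, φ (Pr x) = 0) → (∀ x ∈ Z, φ x = 0) →
      (∀ x, g.1 x = x + (i - 1) • Pr x - ((i + 1) * φ x) • p) → ∃ s ∈ rsW W X, s ^ 4 ∈ Sc F W ∧
        ∀ x, ((s ^ 2).1 x : V) = x - (2 * φ x) • p := fun {g φ p} hg hp a6 a3 a9 e1 => by
    obtain ⟨s, o⟩ := ex_on' (W := W) (g := g) fun x hx => by
      rw [e1, b1 x hx, smul_zero, add_zero]; exact W.sub_mem hx (W.smul_mem _ hp)
    have c1 : ∀ x : W, ((s ^ 2).1 x : V) = x - (2 * φ x) • p := fun x => by
      rw [o.pow 2, pow_two, mul_ap]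
      simp only [e1, b1 _ x.2, b1 p hp, map_add, map_sub, map_smul, a6, smul_eq_mul, smul_zero,
        map_zero]
      match_scalars
      · ring
      · linear_combination φ x * hi
    refine ⟨s, ⟨g, ⟨⟨hg, i, i0, ?_⟩, 1, one_ne_zero, fun x hx => ?_⟩, o⟩,
      mem_Sc_ap one_ne_zero fun x => Subtype.ext ?_, c1⟩
    · rintro _ ⟨x, rfl⟩
      rw [e1, a5, a3]; module
    · rw [e1, a9 x hx, show Pr x = 0 from hx.1.1]; simp
    · rw [show 4 = 2 + 2 from rfl, pow_add, mul_ap, c1, c1]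
      simp only [map_sub, map_smul, a6, one_smul, smul_eq_mul]
      module
  obtain ⟨s, hs, s4, s2⟩ := key hg hp a6 a3 (fun x hx => hx.1.2) e1
  obtain ⟨t, ht, t4, t2⟩ := key hh hq a7 a4 (fun x hx => hx.2) e2
  obtain ⟨v, χ, c1, c2, c3, c4⟩ := dk' hW hs ht s4 t4 fun h => by
    obtain ⟨c, -, e⟩ := Sc_ap h
    have := congrArg Subtype.val (e ((t ^ 2 * s ^ 2).1 ⟨p, hp⟩))
    rw [mul_ap, val_inv_apply, mul_ap, mul_ap, Submodule.coe_smul] at this
    simp only [s2, t2, map_sub, map_smul, a6, a7, smul_eq_mul] at this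
    have b1 := congrArg φ this
    have b2 := congrArg ψ this
    simp only [map_sub, map_smul, a6, a7, smul_eq_mul] at b1 b2
    have b3 : c = 1 := by linear_combination 2 * b1 - (1 - c) * a8
    subst b3
    have b4 : ψ p = 0 := (mul_eq_zero.1 (by linear_combination -b2 + ψ p * a8)).resolve_left h3
    simp [b4] at a8
  obtain ⟨r, hr, e⟩ := t1_ME.1 c4
  obtain ⟨k, ⟨⟨hk, c, hc, k1⟩, d, hd, k2⟩, o⟩ := hr
  have e3 : ∀ x : W, (k ^ ex F).1 x = x + χ x • (v : V) := fun x => by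
    rw [← o.pow _ x, pow_ex_unip (W := ⊤) (g := r) (N := χ.smulRight v) one_ne_zero (by simp)
      (by simp [c3]) (by simp [e]) (x := x) trivial]
    simp
  obtain ⟨x0, hx0⟩ := DFunLike.ne_iff.1 c2
  refine big_of_rank (M.pow_mem hk (ex F)) (v := v) (x0 := x0) (fun e => c1 (Subtype.ext e))
    (by rw [e3, c3, zero_smul, add_zero]) (fun x => ?_) (by rw [e3]; simpa [c1] using hx0)
  obtain ⟨y, hy, hz⟩ : ∃ y ∈ W, x - Pr x - y ∈ Z := by
    refine ⟨_, W.add_mem (W.smul_mem (4 * 3⁻¹ * (φ x - φ q * ψ x)) hp)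
      (W.smul_mem (4 * 3⁻¹ * (ψ x - ψ p * φ x)) hq), ⟨?_, ?_⟩, ?_⟩ <;>
    simp only [SetLike.mem_coe, LinearMap.mem_ker, map_sub, map_add, map_smul, a1, a2, a3, a4,
      a5, a6, a7, smul_eq_mul, smul_zero, sub_self, add_zero]
    · field_simp; linear_combination φ x * a8
    · field_simp; linear_combination ψ x * a8
  refine ⟨χ ⟨y, hy⟩, ?_⟩
  have := pow_ap_sc (k2 _ hz) (ex F)
  rw [map_sub, map_sub, pow_ap_sc (k1 _ ⟨x, rfl⟩), pow_ex hc, pow_ex hd, e3 ⟨y, hy⟩] at this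
  linear_combination (norm := module) this

/-- The projection onto the fixed space. -/
def pr (w : GV F V) : End F V := (2 : F)⁻¹ • (1 + w.1)

theorem pr_ap (w : GV F V) (x : V) : pr w x = (2 : F)⁻¹ • (x + w.1 x) := rfl

theorem pr_mem (hw : w * w = 1) (x : V) : pr w x ∈ Vp w := half_mem hw x

theorem pr_self (h2 : (2 : F) ≠ 0) {x : V} (hx : x ∈ Vp w) : pr w x = x := by
  rw [pr_ap, mem_Vp.1 hx, ← two_smul F, smul_smul, inv_mul_cancel₀ h2, one_smul]

theorem pr_zero {x : V} (hx : x ∈ Vp (-w)) : pr w x = 0 := by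
  rw [pr_ap, mem_Vp_neg.1 hx, add_neg_cancel, smul_zero]

theorem pr_zero' {x : V} (hx : x ∈ Vp w) : pr (-w) x = 0 := pr_zero (by rwa [neg_neg])

theorem pr_conj (g w : GV F V) (x : V) : pr (g * w * g⁻¹) x = g.1 (pr w ((g⁻¹).1 x)) := by
  simp only [pr_ap, mul_ap, map_smul, map_add, val_apply_inv]

theorem pr_map (h : ip a w = 0) {x : V} (hx : x ∈ Vp w) : pr a x ∈ Vp w :=
  Submodule.smul_mem _ _ (Submodule.add_mem _ hx (Vp_map h hx))

theorem pr_comm (h : ip a w = 0) (x : V) : pr a (pr w x) = pr w (pr a x) := by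
  simp only [pr_ap, map_smul, map_add, ip_ap h]
  module

theorem Pa.line (P : Pa R) (hn : finrank F V = 4) (I : Iv R w) (hb : b * b = 1) (h1 : ip b w = 0)
    (h2 : ip w' w = 0) (h3 : w' * b = -(b * w')) : ∃ (p : V) (φ : Dual F V), p ∈ Vp w ∧
      p ∈ Vp b ∧ φ p = 1 ∧ ∀ x, pr w (pr b x) = φ x • p := by
  have d1 := finrank_half P.two hb h3 (U := Vp w) (fun _ => Vp_map h1) fun _ => Vp_map h2
  have d2 := P.finrank_Vp I
  obtain ⟨⟨p, hp⟩, h4, h5⟩ := finrank_eq_one_iff'.1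
    (show finrank F (Vp w ⊓ Vp b : Submodule F V) = 1 by omega)
  obtain ⟨l, hl⟩ := Module.Projective.exists_dual_eq_one F
    (show p ≠ 0 from fun e => h4 (Subtype.ext e))
  refine ⟨p, l ∘ₗ pr w ∘ₗ pr b, hp.1, hp.2, by
    simp [pr_self P.two hp.1, pr_self P.two hp.2, hl], fun x => ?_⟩
  obtain ⟨c, e⟩ := h5 ⟨pr w (pr b x), pr_mem I.sq _,
    pr_map ((ip_comm _ _).trans h1) (pr_mem hb _)⟩
  have e : c • p = pr w (pr b x) := congrArg Subtype.val e
  simp [← e, hl]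

theorem CM.spec4 (P : CM R M) (hI : HasI R) (hn : finrank F V = 4) (I : Iv R w) (hw : w ∈ R)
    (ha : NN R a) (hc : NN R c) (a1 : ip a w = 0) (c1 : ip c w = 0) (e : ip c a = 1) (hk : k ∈ M)
    (k1 : ∀ v ∈ Vp w, k.1 v = v) (k2 : ∀ v ∈ Vp (-w), k.1 v = (T c * (T a)⁻¹).1 v) : Big M := by
  have h2 := P.two
  have kw : ip k w = 0 := ip_of_maps h2 I.sq (fun v hv => (k1 v hv).symm ▸ hv) fun v hv =>
    (k2 v hv).symm ▸ Vp_map_neg (ip_mul_zero (ip_T h2 hc.2.1 c1)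
      ((ip_inv_left _ _).trans (ip_T h2 ha.2.1 a1))) hv
  have ka : ∀ v ∈ Vp (-w), k.1 (a.1 v) = c.1 (a.1 (k.1 v)) := fun v hv => by
    rw [k2 v hv, k2 _ (Vp_map_neg a1 hv), ← mul_ap, ← mul_ap, ← mul_ap,
      ← P.T_conj_one hc.RS hc.2.1 ha.RS e, mul_assoc (T c), ip_eq_zero.1
        ((ip_inv_left _ _).trans (ip_T h2 ha.2.1 (ip_self a)))]
    congr 2
    group
  by_cases h3 : (3 : F) = 0
  · have : Fact (Nat.Prime 3) := ⟨Nat.prime_three⟩
    have : CharP F 3 := (CharP.charP_iff_prime_eq_zero (R := F) Nat.prime_three).2 (by simpa)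
    have wk : ip (w * k) (-w) = 0 := (ip_neg_right _ _).trans (ip_mul_zero (ip_self w) kw)
    obtain ⟨t, o⟩ := ex_on_Vp wk
    have d := P.finrank_Vp I.neg
    have ac : ∀ v, a.1 (c.1 v) = -c.1 (a.1 v) := fun v => by
      rw [← mul_ap, P.anti ha.RS hc.RS ((ip_comm _ _).trans e)]; rfl
    have t1 : ∀ v : Vp (-w), (t.1 v : V) = -k.1 v := fun v => by
      rw [o, mul_ap, mem_Vp_neg.1 (Vp_map_neg kw v.2)]
    have t2 : ∀ v : Vp (-w), (t.1 v : V) = v + c.1 v - a.1 v - c.1 (a.1 v) := fun v => by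
      rw [t1, k2 _ v.2, mul_ap, T_ap h2 hc.2.1, T_inv_val h2 ha.2.1,
        show (2 : F)⁻¹ = -1 from inv_eq_of_mul_eq_one_right (by linear_combination -h3)]
      simp only [LinearMap.smul_apply, LinearMap.sub_apply, End.one_apply, map_smul, map_sub]
      module
    obtain ⟨v, φ, b1, b2, b3, b4⟩ := tv_of_unip (g := t) (by omega) 3 (GV_ext fun v => Subtype.ext (by
      simp only [pow_succ, pow_zero, one_mul, mul_ap, t2, map_add, map_sub, ac, sq_ap ha.2.1,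
        sq_ap hc.2.1, map_neg, one_ap]
      linear_combination (norm := module) h3 • (-(3 : F) • (v : V)))) fun e => by
        obtain ⟨v, hv, v0⟩ := Vp_ne h2 I.neg.sq I.neg.ns
        have b1 : ∀ v ∈ Vp (-w), k.1 v = -v := fun v hv => by
          have := t1 ⟨v, hv⟩
          rw [e] at this
          exact neg_eq_iff_eq_neg.1 this.symm
        have b2 := ka v hv
        rw [b1 v hv, b1 _ (Vp_map_neg a1 hv), map_neg, map_neg, neg_inj] at b2
        have b3 := sq_ap hc.2.1 (a.1 v)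
        rw [← b2, ← b2] at b3
        exact ap_ne a v0 (Vp_disj (w := 1) h2 (mem_Vp.2 rfl) (mem_Vp_neg.2 b3))
    exact big_of_kr h2 I.neg.sq ⟨v, φ, b1, b2, b3, t1_ME.2 ⟨t, mem_kr.2 ⟨_,
      M.mul_mem (P.le hw) hk, ⟨1, one_ne_zero, fun v hv => by
        rw [neg_neg] at hv
        rw [mul_ap, k1 v hv, mem_Vp.1 hv, one_smul]⟩, wk, o⟩, b4⟩⟩
  obtain ⟨j, hj, j1, j2⟩ := id hI
  obtain ⟨i, -, ji⟩ := Sc_ap j1
  have hi : i * i = -1 := by
    obtain ⟨v, -, v0⟩ := Vp_ne h2 I.sq I.ns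
    have := sq_ap j2 v
    rw [ji, ji, smul_smul, ← neg_one_smul F v] at this
    exact smul_left_injective F v0 this
  have I' := P.iv_of_nn hj j1 j2 ha
  have hw' := R.mul_mem hj ha.1
  have b1 : ip (j * a) w = 0 := (ip_smul_left j1 _ _).trans a1
  have b2 : ip c (j * a) = 1 := (ip_smul_right j1 _ _).trans e
  have b3 : ∀ v ∈ Vp (-w), k.1 ((j * a).1 v) = (c * (j * a)).1 (k.1 v) := fun v hv => by
    simp only [mul_ap, ji, map_smul, ka v hv]
  generalize j * a = w' at I' hw' b1 b2 b3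
  have b4 : c * w' * (c * w') = 1 := by
    rw [P.sq_mul_anti hc.RS I'.mem b2, hc.2.1, I'.sq]; simp
  have b5 : ip (c * w') w = 0 := ip_mul_zero c1 b1
  have b6 : w' * (c * w') = -(c * w' * w') := by
    rw [← mul_assoc, P.anti I'.mem hc.RS ((ip_comm _ _).trans b2), neg_mul]
  generalize c * w' = b at b3 b4 b5 b6
  have n1 := P.nn_of_iv hj j1 j2 hw I
  have n2 := P.nn_of_iv hj j1 j2 hw' I'
  obtain ⟨E, hE, e1⟩ : ∃ E ∈ M, ∀ x, E.1 x = x + (i - 1) • pr w (pr w' x) -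
      (i + 1) • pr (-w) (pr (-b) x) := by
    refine ⟨k * (C6.sc V 2⁻¹ (inv_ne_zero h2) * (T (j * w) * T (j * w'))) * k⁻¹, M.mul_mem
      (M.mul_mem hk (M.mul_mem (P.sc (sc_mem _ _)) (P.tt _ _ n1 n2))) (M.inv_mem hk), fun x => ?_⟩
    rw [← val_apply_inv k x]
    obtain ⟨p, hp, q, hq, e⟩ := Vp_dec h2 I.sq ((k⁻¹).1 x)
    have hq' := Vp_map_neg kw hq
    rw [e, mul_ap, val_inv_apply]
    simp only [mul_ap, sc_ap, T_ap h2 n1.2.1, T_ap h2 n2.2.1, ji, map_add, map_smul, map_neg,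
      mem_Vp.1 hp, mem_Vp_neg.1 hq, mem_Vp.1 (Vp_map b1 hp), mem_Vp_neg.1 (Vp_map_neg b1 hq),
      k1 p hp, k1 _ (Vp_map b1 hp), b3 q hq, pr_ap, neg_ap, mem_Vp_neg.1 hq',
      mem_Vp_neg.1 (Vp_map_neg b1 hq'), mem_Vp_neg.1 (Vp_map_neg b5 hq'), mem_Vp.1 (Vp_map b5 hp)]
    match_scalars <;> field_simp <;> grind
  obtain ⟨h, hh, f1, f2⟩ : ∃ h ∈ M, h * w * h⁻¹ = w' ∧ h * w' * h⁻¹ = w := by
    obtain ⟨u, hu, u1, u2, u3⟩ := P.exists_anti_sq (Or.inl hI) hw hw' ((ip_comm _ _).trans b1)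
      I.ns I'.ns (Or.inr rfl)
    have U := le_RS hu
    have ww := (RS R).mul_mem I.mem I'.mem
    have u4 : ip u (w * w') = 0 := by rw [P.ip_mul_right I.mem I'.mem U, u2, u3]; rfl
    have u5 : ∀ x ∈ RS R, ip u x = 1 → ip (w * w') x = 0 → ip (-(u * (w * w'))) (u * x) = 1 :=
      fun x hx e1 e2 => by
        rw [ip_neg_left, P.ip_mul_left U ww ((RS R).mul_mem U hx), P.ip_mul_right U hx U,
          P.ip_mul_right U hx ww, ip_self, e1, e2, ip_comm, u4]; rfl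
    have u6 := u5 w I.mem u2 (ip_mul_zero (ip_self w) b1)
    have u7 := u5 w' I'.mem u3 (ip_mul_zero ((ip_comm _ _).trans b1) (ip_self w'))
    have n3 : NN R u := ⟨hu, u1, not_Sc_of_ip u2⟩
    have n4 : NN R (-(u * (w * w'))) := ⟨P.neg_mem (R.mul_mem hu (R.mul_mem hw hw')), by
      rw [neg_mul_neg, P.sq_mul_comm u4, u1, P.sq_mul_comm ((ip_comm _ _).trans b1), I.sq, I'.sq]
      simp, not_Sc_of_ip u6⟩
    have u8 : ∀ x, -(u * (w * w')) * (u * x) = w * w' * x := fun x => by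
      rw [ip_eq_zero.1 u4, neg_mul, mul_assoc, ← mul_assoc u, u1]; simp
    refine ⟨_, P.tt _ _ n4 n3, ?_, ?_⟩
    · rw [C6.conj_mul, P.T_conj_one U u1 I.mem u2,
        P.T_conj_one n4.RS n4.2.1 ((RS R).mul_mem U I.mem) u6, u8, ← ip_eq_zero.1 b1, mul_assoc,
        I.sq, mul_one]
    · rw [C6.conj_mul, P.T_conj_one U u1 I'.mem u3,
        P.T_conj_one n4.RS n4.2.1 ((RS R).mul_mem U I'.mem) u7, u8, mul_assoc, I'.sq, mul_one]
  have c2 : ∀ x, (h * E * h⁻¹).1 x = x + (i - 1) • pr w (pr w' x) -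
      (i + 1) • pr (-w') (pr (-(h * b * h⁻¹)) x) := fun x => by
    have g1 := pr_conj h w
    have g2 := pr_conj h w'
    have g3 := pr_conj h (-w)
    have g4 := pr_conj h (-b)
    rw [f1] at g1
    rw [f2] at g2
    rw [mul_neg, neg_mul, f1] at g3
    rw [mul_neg, neg_mul] at g4
    rw [← pr_comm b1, g1, g2 x, g3, g4]
    simp only [mul_ap, e1, map_add, map_sub, map_smul, val_apply_inv, val_inv_apply]
  have c4 := conj_sq_one b4 h
  have c5 : ip (h * b * h⁻¹) w' = 0 := by rw [← f1, ip_conj, b5]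
  have c6 : w * (h * b * h⁻¹) = -(h * b * h⁻¹ * w) := by
    have := congrArg (fun t => h * t * h⁻¹) b6
    rw [← f2]
    simpa [mul_assoc] using this
  have hE' := M.mul_mem (M.mul_mem hh hE) (M.inv_mem hh)
  generalize h * E * h⁻¹ = E' at c2 hE'
  generalize h * b * h⁻¹ = b' at c2 c4 c5 c6
  obtain ⟨p, φ, p1, p2, p3, p4⟩ := P.line hn I.neg (b := -b) (w' := w') (by simpa using b4)
    (by rwa [ip_neg_left, ip_neg_right]) (by rwa [ip_neg_right]) (by simp [b6])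
  obtain ⟨q, ψ, q1, q2, q3, q4⟩ := P.line hn I'.neg (b := -b') (w' := w) (by simpa using c4)
    (by rwa [ip_neg_left, ip_neg_right]) (by rwa [ip_neg_right, ip_comm]) (by simp [c6])
  have p0 : p ≠ 0 := by rintro rfl; simp at p3
  have q0 : q ≠ 0 := by rintro rfl; simp at q3
  refine big_of_two h2 h3 hi (Pr := pr w * pr w') (φ := φ) (ψ := ψ) (p := p) (q := q) hE hE'
    (fun x => by rw [e1, p4, smul_smul]; rfl) (fun x => by rw [c2, q4, smul_smul]; rfl) ?_ ?_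
    (fun x => ?_) (fun x => ?_) (fun x => ?_) p3 q3 ?_ <;> try simp only [End.mul_apply]
  · rw [← pr_comm b1, pr_zero p1, map_zero]
  · rw [pr_zero q1, map_zero]
  · refine (smul_eq_zero.1 ?_).resolve_right p0
    rw [← p4, pr_zero' (pr_map ((ip_neg_left _ _).trans b5) (pr_mem I.sq _))]
  · refine (smul_eq_zero.1 ?_).resolve_right q0
    rw [← q4, ← pr_comm b1, pr_zero' (pr_map ((ip_neg_left _ _).trans c5) (pr_mem I'.sq _))]
  · rw [pr_comm b1, pr_self h2 (pr_mem I'.sq _), pr_self h2 (pr_mem I.sq _)]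
  · refine smul_left_injective F p0 ?_
    have d1 := Vp_anti' ((neg_eq_iff_eq_neg.2 c6).symm) p1
    have d2 := Vp_anti' b6 p2
    dsimp only
    have d3 : pr (-w) (pr (-w') (pr (-b') p)) = (2 : F)⁻¹ • pr (-w') p := by
      rw [pr_comm ((ip_neg_left _ _).trans ((ip_neg_right _ _).trans ((ip_comm _ _).trans b1))),
        pr_ap (-b'), neg_ap, map_smul, map_add, map_neg, pr_self h2 p1, pr_zero' d1, neg_zero,
        add_zero, map_smul]
    rw [mul_smul, mul_comm, mul_smul, ← p4, ← map_smul (pr (-w)), ← map_smul (pr (-b)), ← q4,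
      ← pr_comm ((ip_neg_left _ _).trans ((ip_neg_right _ _).trans b5)), d3, map_smul,
      pr_ap (-w'), neg_ap, map_smul, map_add, map_neg, pr_self h2 p2, pr_zero' d2]
    match_scalars
    field_simp
    ring

end Cfsg.Agent.C6
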